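import Mathlib
import Cfsg.Prelude.Def_Solvable
import Cfsg.Agent.S4249
import Cfsg.Agent.Lib.Transfer.TypeP

/-!
Groups with a partition: the normal partition refining a given one, and its components.
-/

set_option autoImplicit false
set_option linter.unusedSectionVars false
set_option linter.style.haveILetI false

namespace Cfsg.Agent.Grp.Partn

open Subgroup

universe u

variable {G : Type u} [Group G]

/-- A nontrivial partition invariant under conjugation, given by the component of each element. -/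
structure Part (G : Type u) [Group G] where
  /-- The component of an element. -/
  C : G → Subgroup G
  mem : ∀ x, x ∈ C x
  eq_of_mem : ∀ {x z}, x ≠ 1 → z ≠ 1 → z ∈ C x → C z = C x
  conj : ∀ g x y, y ∈ C x → g * y * g⁻¹ ∈ C (g * x * g⁻¹)
  ne_top : ∀ {x}, x ≠ 1 → C x ≠ ⊤

section exist

variable (S : Set (Subgroup G))

/-- The intersection of all conjugates of members of `S` containing `x`. -/
def compOf (x : G) : Subgroup G where
  carrier := {y | ∀ g : G, ∀ H ∈ S, g⁻¹ * x * g ∈ H → g⁻¹ * y * g ∈ H}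
  one_mem' := fun g H _ _ => by simp
  mul_mem' := fun {a b} ha hb g H hH hx => by
    have := mul_mem (ha g H hH hx) (hb g H hH hx)
    simpa [mul_assoc] using this
  inv_mem' := fun {a} ha g H hH hx => by
    have := inv_mem (ha g H hH hx)
    simpa [mul_assoc] using this

theorem mem_compOf {x y : G} :
    y ∈ compOf S x ↔ ∀ g : G, ∀ H ∈ S, g⁻¹ * x * g ∈ H → g⁻¹ * y * g ∈ H := Iff.rfl

theorem nonempty_part {S : Set (Subgroup G)} (hS2 : ∃ H ∈ S, ∃ K ∈ S, H ≠ K) (hS1 : ∀ H ∈ S, H ≠ ⊥)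
    (hpart : ∀ g : G, g ≠ 1 → ∃! H : Subgroup G, H ∈ S ∧ g ∈ H) : Nonempty (Part G) := by
  have hconj : ∀ (g x : G), x ≠ 1 → g⁻¹ * x * g ≠ 1 := fun g x hx h => by
    apply hx
    rw [show x = g * (g⁻¹ * x * g) * g⁻¹ by group, h]
    group
  refine ⟨⟨compOf S, fun x g H _ h => h, ?_, ?_, ?_⟩⟩
  · intro x z hx hz hzx
    ext y
    constructor
    · exact fun hy g H hH hxH => hy g H hH (hzx g H hH hxH)
    · intro hy g H hH hzH
      refine hy g H hH ?_
      obtain ⟨H', ⟨hH', hxH'⟩, -⟩ := hpart _ (hconj g x hx)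
      have h1 := hzx g H' hH' hxH'
      rw [(hpart _ (hconj g z hz)).unique ⟨hH, hzH⟩ ⟨hH', h1⟩]
      exact hxH'
  · intro g x y hy k H hH hk
    have h1 := hy (g⁻¹ * k) H hH (by simpa [mul_assoc] using hk)
    simpa [mul_assoc] using h1
  · intro x hx e
    obtain ⟨H, ⟨hH, hxH⟩, -⟩ := hpart x hx
    have htop : H = ⊤ := eq_top_iff.2 fun y _ => by
      simpa using (mem_compOf S).1 (show y ∈ compOf S x from e ▸ mem_top y) 1 H hH (by simpa using hxH)
    obtain ⟨A, hA, B, hB, hAB⟩ := hS2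
    have key : ∀ K ∈ S, K = H := by
      intro K hK
      obtain ⟨k, hk, hk1⟩ := (Subgroup.bot_or_exists_ne_one K).resolve_left (hS1 K hK)
      exact (hpart k hk1).unique ⟨hK, hk⟩ ⟨hH, htop ▸ mem_top k⟩
    exact hAB ((key A hA).trans (key B hB).symm)

end exist

namespace Part

variable (P : Part G)

theorem eq_of_common {x y w : G} (hx : x ≠ 1) (hy : y ≠ 1) (hw : w ≠ 1) (hwx : w ∈ P.C x)
    (hwy : w ∈ P.C y) : P.C x = P.C y :=
  (P.eq_of_mem hx hw hwx).symm.trans (P.eq_of_mem hy hw hwy)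

theorem mem_of_pow {x : G} (n : ℕ) (h : x ^ n ≠ 1) : P.C (x ^ n) = P.C x :=
  P.eq_of_mem (fun e => h (by rw [e, one_pow])) h (pow_mem (P.mem x) n)

/-- Powers of an element outside a component avoid it. -/
theorem pow_eq_one_of_notMem {x g : G} (hx : x ≠ 1) (hg : g ∉ P.C x) {n : ℕ} (h : g ^ n ∈ P.C x) :
    g ^ n = 1 := by
  by_contra hne
  have hg1 : g ≠ 1 := fun e => hg (e ▸ one_mem _)
  exact hg (P.eq_of_common hx hg1 hne h (pow_mem (P.mem g) n) ▸ P.mem g)

/-- Commuting elements of different components have the same prime order. -/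
theorem prime_of_commute [Finite G] {x y : G} (hx : x ≠ 1) (hy : y ≠ 1) (hc : Commute x y)
    (hyx : y ∉ P.C x) : (orderOf x).Prime ∧ orderOf y = orderOf x := by
  have hz : x * y ≠ 1 := fun e => hyx (by
    rw [eq_inv_of_mul_eq_one_right e]; exact inv_mem (P.mem x))
  have hxy : P.C x ≠ P.C y := fun e => hyx (e ▸ P.mem y)
  have hzx : P.C (x * y) ≠ P.C x := fun e => hyx (by
    have := mul_mem (inv_mem (P.mem x)) (e ▸ P.mem (x * y))
    rwa [inv_mul_cancel_left] at this)
  have hzy : P.C (x * y) ≠ P.C y := fun e => hxy (by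
    have := mul_mem (e ▸ P.mem (x * y)) (inv_mem (P.mem y))
    rw [mul_inv_cancel_right] at this
    exact (P.eq_of_mem hy hx this))
  have h1 : ∀ n : ℕ, x ^ n = 1 → y ^ n = 1 := fun n hn => by
    by_contra h
    exact hzy (P.eq_of_common hz hy h
      (by rw [← one_mul (y ^ n), ← hn, ← hc.mul_pow]; exact pow_mem (P.mem _) n) (pow_mem (P.mem y) n))
  have h2 : ∀ n : ℕ, y ^ n = 1 → x ^ n = 1 := fun n hn => by
    by_contra h
    exact hzx (P.eq_of_common hz hx h
      (by rw [← mul_one (x ^ n), ← hn, ← hc.mul_pow]; exact pow_mem (P.mem _) n) (pow_mem (P.mem x) n))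
  have heq : orderOf y = orderOf x := Nat.dvd_antisymm
    (orderOf_dvd_of_pow_eq_one (h1 _ (pow_orderOf_eq_one x)))
    (orderOf_dvd_of_pow_eq_one (h2 _ (pow_orderOf_eq_one y)))
  refine ⟨?_, heq⟩
  by_contra hnp
  have hn1 : orderOf x ≠ 1 := fun e => hx (orderOf_eq_one_iff.1 e)
  set p := (orderOf x).minFac with hpdef
  have hp : p.Prime := Nat.minFac_prime hn1
  haveI := Fact.mk hp
  have hxp : x ^ p ≠ 1 := fun e => hnp (by
    rw [orderOf_eq_prime e hx]; exact hp)
  have hyxp : y ∉ P.C (x ^ p) := by rwa [P.mem_of_pow p hxp]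
  have hxy' : Commute (x ^ p) y := hc.pow_left p
  have h3 : y ^ orderOf (x ^ p) = 1 := by
    by_contra h
    have hz' : x ^ p * y ≠ 1 := fun e => hyxp (by
      rw [eq_inv_of_mul_eq_one_right e]; exact inv_mem (P.mem _))
    have hzy' : P.C (x ^ p * y) ≠ P.C y := fun e => by
      have := mul_mem (e ▸ P.mem (x ^ p * y)) (inv_mem (P.mem y))
      rw [mul_inv_cancel_right] at this
      exact hyxp (P.eq_of_mem hy hxp this ▸ P.mem y)
    exact hzy' (P.eq_of_common hz' hy h
      (by rw [← one_mul (y ^ orderOf (x ^ p)), ← pow_orderOf_eq_one (x ^ p), ← hxy'.mul_pow]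
          exact pow_mem (P.mem _) _) (pow_mem (P.mem y) _))
  have h4 : orderOf x ∣ orderOf (x ^ p) := heq ▸ orderOf_dvd_of_pow_eq_one h3
  rw [orderOf_pow_of_dvd hp.ne_zero (Nat.minFac_dvd _)] at h4
  have hpos : 0 < orderOf x := orderOf_pos x
  have h5 : orderOf x / p < orderOf x := Nat.div_lt_self hpos hp.one_lt
  have h6 : 0 < orderOf x / p := Nat.div_pos (Nat.minFac_le hpos) hp.pos
  exact absurd (Nat.le_of_dvd h6 h4) (not_le.2 h5)

theorem mem_of_commute [Finite G] {x y : G} (hx : x ≠ 1) (hc : Commute x y)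
    (h : ¬ (orderOf x).Prime ∨ orderOf y ≠ orderOf x) : y ∈ P.C x := by
  by_cases hy : y = 1
  · exact hy ▸ one_mem _
  by_contra hyx
  obtain ⟨h1, h2⟩ := P.prime_of_commute hx hy hc hyx
  rcases h with h | h
  · exact h h1
  · exact h h2

theorem mem_normalizer_of_conj [Finite G] {x y g : G} (hx : x ≠ 1) (hy : y ≠ 1) (hyx : y ∈ P.C x)
    (hg : g * y * g⁻¹ ∈ P.C x) : g ∈ normalizer (P.C x : Set G) := by
  have hg1 : g * y * g⁻¹ ≠ 1 := fun e => hy (conj_eq_one_iff.1 e)
  have h1 : P.C (g * y * g⁻¹) = P.C y := by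
    rw [P.eq_of_mem hx hg1 hg, P.eq_of_mem hx hy hyx]
  rw [← P.eq_of_mem hx hy hyx]
  exact mem_normalizer_fintype fun z hz => by
    have := P.conj g y z hz
    rwa [h1] at this

theorem mem_normalizer_of_commute [Finite G] {x y g : G} (hx : x ≠ 1) (hy : y ≠ 1) (hyx : y ∈ P.C x)
    (hg : Commute g y) : g ∈ normalizer (P.C x : Set G) :=
  P.mem_normalizer_of_conj hx hy hyx (by rwa [hg.eq, mul_inv_cancel_right])

theorem conj_mem_iff {x g : G} (hg : g ∈ normalizer (P.C x : Set G)) {y : G} (hy : y ∈ P.C x) :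
    g * y * g⁻¹ ∈ P.C x :=
  (mem_normalizer_iff.1 hg y).1 hy

/-- A component that is not self-normalizing is nilpotent. -/
theorem nilpotent_of_ne [Finite G] {x g : G} (hx : x ≠ 1) (hg : g ∈ normalizer (P.C x : Set G))
    (hgx : g ∉ P.C x) : Group.IsNilpotent ↥(P.C x) := by
  set X := P.C x with hX
  have hg1 : g ≠ 1 := fun e => hgx (e ▸ one_mem _)
  set q := (orderOf g).minFac with hqdef
  have hq : q.Prime := Nat.minFac_prime (fun e => hg1 (orderOf_eq_one_iff.1 e))
  haveI := Fact.mk hq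
  set g' := g ^ (orderOf g / q) with hg'
  have hog : orderOf g' = q :=
    orderOf_pow_orderOf_div (orderOf_pos g).ne' (Nat.minFac_dvd _)
  have hg'1 : g' ≠ 1 := fun e => hq.ne_one (by rw [← hog, e, orderOf_one])
  have hg'x : g' ∉ X := fun h => hg'1 (P.pow_eq_one_of_notMem hx hgx h)
  have hg'N : g' ∈ normalizer (X : Set G) := pow_mem hg _
  set K := X ⊔ zpowers g' with hK
  have hXK : X ≤ K := le_sup_left
  have hKN : K ≤ normalizer (X : Set G) := sup_le le_normalizer (zpowers_le.2 hg'N)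
  haveI : (X.subgroupOf K).Normal := normal_subgroupOf_of_le_normalizer hKN
  let π := QuotientGroup.mk' (X.subgroupOf K)
  have hgK : g' ∈ K := mem_sup_right (mem_zpowers g')
  have hout : ∀ k : K, (k : G) ∉ X → k ^ q = 1 := by
    intro k hk
    have hk' : π k ∈ zpowers (π ⟨g', hgK⟩) := by
      have hle : K ≤ ((zpowers (π ⟨g', hgK⟩)).comap π).map K.subtype := by
        refine sup_le (fun y hy => ⟨⟨y, hXK hy⟩, ?_, rfl⟩) (zpowers_le.2 ⟨⟨g', hgK⟩, mem_zpowers _, rfl⟩)
        show π ⟨y, hXK hy⟩ ∈ zpowers (π ⟨g', hgK⟩)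
        rw [show π ⟨y, hXK hy⟩ = 1 from (QuotientGroup.eq_one_iff _).2 hy]
        exact one_mem _
      obtain ⟨k', hk', e⟩ := hle k.2
      rwa [show k' = k from Subtype.ext e] at hk'
    obtain ⟨i, hi⟩ := mem_zpowers_iff.1 hk'
    have h1 : π (k ^ q) = 1 := by
      rw [map_pow, ← hi, ← zpow_natCast, ← zpow_mul, mul_comm, zpow_mul, zpow_natCast, ← map_pow,
        show (⟨g', hgK⟩ : K) ^ q = 1 from Subtype.ext (hog ▸ pow_orderOf_eq_one g'), map_one, one_zpow]
    have h2 : (k : G) ^ q ∈ X := by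
      rw [← SubmonoidClass.coe_pow]; exact (QuotientGroup.eq_one_iff (k ^ q)).1 h1
    exact Subtype.ext (by rw [SubmonoidClass.coe_pow]; exact P.pow_eq_one_of_notMem hx hk h2)
  by_cases hp : IsPGroup q K
  · exact (hp.to_le hXK).isNilpotent
  have hle : closure {k : K | k ^ q ≠ 1} ≤ X.subgroupOf K :=
    (closure_le _).2 fun k hk => by_contra fun hkX => hk (hout k hkX)
  have hne : X.subgroupOf K ≠ ⊤ := fun e => hg'x (subgroupOf_eq_top.1 e hgK)
  obtain ⟨hnil, hidx⟩ := S4249.result q hq hp (ne_top_of_le_ne_top hne hle)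
  have h1 := index_dvd_of_le hle
  rw [hidx] at h1
  have h2 : (X.subgroupOf K).index = q :=
    (hq.eq_one_or_self_of_dvd _ h1).resolve_left fun e => hne (index_eq_one.1 e)
  have heq : closure {k : K | k ^ q ≠ 1} = X.subgroupOf K := by
    by_contra hne'
    have := index_strictAnti (lt_of_le_of_ne hle hne')
    omega
  rw [heq] at hnil
  haveI := hnil
  exact Group.nilpotent_of_surjective (subgroupOfEquivOfLe hXK).toMonoidHom (subgroupOfEquivOfLe hXK).surjective

theorem commute_of_coprime [Finite G] {x : G} (hnil : Group.IsNilpotent ↥(P.C x)) {a b : G}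
    (ha : a ∈ P.C x) (hb : b ∈ P.C x) (h : (orderOf a).Coprime (orderOf b)) : Commute a b :=
  Transfer.TypeP.commute_of_coprime_orderOf hnil ha hb h

end Part

end Cfsg.Agent.Grp.Partn
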