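import Mathlib
import Cfsg.Agent.S0205

/-!
Groups acting on an abelian group so that the norms of the elements of order `q` vanish and the other
elements act without fixed points: the elements of order `q` form a normal subgroup.
-/

set_option autoImplicit false
set_option linter.unusedSectionVars false
set_option linter.style.haveILetI false

namespace Cfsg.Agent.Grp.Partn

open Finset
open scoped commutatorElement

universe u

variable {Q : Type u} [Group Q] {M : Type*} [AddCommGroup M] [DistribMulAction Q M]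

/-- If a group of operators `K` has an element without fixed points and is normalized by an element
`g` of prime order, without fixed points on `K`, whose conjugates have zero norm, then the order
of `K` annihilates the module. -/
theorem card_nsmul_eq_zero {q : ℕ} (hq : q.Prime) (K : Subgroup Q) [Finite K] (g : Q) (hgq : g ^ q = 1)
    (hgK : ∀ k ∈ K, g * k * g⁻¹ ∈ K) (hC : ∀ k ∈ K, Commute g k → k = 1)
    (hnorm : ∀ k ∈ K, ∀ m : M, ∑ j ∈ range q, (k * g * k⁻¹) ^ j • m = 0)
    (hK : ∃ k₀ ∈ K, ∀ m : M, k₀ • m = m → m = 0) (m : M) : Nat.card K • m = 0 := by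
  classical
  haveI := Fintype.ofFinite K
  have hgj : ∀ j : ℕ, ∀ k ∈ K, g ^ j * k * (g ^ j)⁻¹ ∈ K := by
    intro j
    induction j with
    | zero => simp
    | succ j ih =>
      intro k hk
      have := hgK _ (ih k hk)
      rw [pow_succ']
      simpa [mul_assoc] using this
  have hsum : ∀ m : M, ∑ k : K, (k : Q) • m = 0 := by
    intro m
    obtain ⟨k₀, hk₀, hfix⟩ := hK
    refine hfix _ ?_
    rw [smul_sum]
    exact Fintype.sum_equiv (Equiv.mulLeft (⟨k₀, hk₀⟩ : K)) _ _ fun k => by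
      simp [mul_smul]
  have hj : ∀ j ∈ range q, j ≠ 0 → ∑ k : K, ((k : Q) * g * (k : Q)⁻¹) ^ j • m = 0 := by
    intro j hj hj0
    have hjq := Finset.mem_range.1 hj
    have hmem : ∀ k : K, (g ^ j)⁻¹ * ((k : Q) * g ^ j * (k : Q)⁻¹) ∈ K := by
      intro k
      have h1 : g ^ j * g ^ (q - j) = 1 := by rw [← pow_add, Nat.add_sub_cancel' hjq.le, hgq]
      have hinv : (g ^ j)⁻¹ = g ^ (q - j) := inv_eq_of_mul_eq_one_right h1
      have h2 := hgj (q - j) k k.2
      rw [← hinv, inv_inv] at h2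
      have := mul_mem h2 (inv_mem k.2)
      simpa [mul_assoc] using this
    let φ : K → K := fun k => ⟨_, hmem k⟩
    have hφ : Function.Injective φ := by
      intro a b e
      have e' : (a : Q) * g ^ j * (a : Q)⁻¹ = (b : Q) * g ^ j * (b : Q)⁻¹ :=
        mul_left_cancel (congrArg Subtype.val e)
      have hc : Commute (g ^ j) (((b : Q))⁻¹ * a) := by
        show _ * _ = _ * _
        calc g ^ j * ((b : Q)⁻¹ * a) = (b : Q)⁻¹ * ((b : Q) * g ^ j * (b : Q)⁻¹) * a := by group
          _ = (b : Q)⁻¹ * a * g ^ j := by rw [← e']; group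
      have hc' : Commute g ((b : Q)⁻¹ * a) := by
        have hcop : j.Coprime q := ((hq.coprime_iff_not_dvd).2 (fun h => by
          have := Nat.le_of_dvd (by omega) h; omega)).symm
        obtain ⟨r, hr⟩ := exists_pow_eq_self_of_coprime
          (hcop.coprime_dvd_right (orderOf_dvd_of_pow_eq_one hgq))
        rw [← hr]
        exact hc.pow_left r
      exact Subtype.ext (inv_mul_eq_one.1 (hC _ (mul_mem (inv_mem b.2) a.2) hc')).symm
    have e : ∀ k : K, ((k : Q) * g * (k : Q)⁻¹) ^ j • m = g ^ j • ((φ k : Q) • m) := by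
      intro k
      rw [← mul_smul, conj_pow]
      congr 1
      show _ = g ^ j * ((g ^ j)⁻¹ * ((k : Q) * g ^ j * (k : Q)⁻¹))
      rw [mul_inv_cancel_left]
    simp only [e]
    rw [← smul_sum, (Finite.injective_iff_bijective.1 hφ).sum_comp (fun k : K => (k : Q) • m), hsum,
      smul_zero]
  have htot : ∑ j ∈ range q, ∑ k : K, ((k : Q) * g * (k : Q)⁻¹) ^ j • m = 0 := by
    rw [Finset.sum_comm]
    exact Finset.sum_eq_zero fun k _ => hnorm k k.2 m
  rw [Finset.sum_eq_single_of_mem 0 (Finset.mem_range.2 hq.pos) hj] at htot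
  simpa [Finset.card_univ, Nat.card_eq_fintype_card] using htot

/-- The hypotheses: every element has order dividing `q` and zero norm, or order prime to `q` and no
fixed points. -/
structure NormHyp (Q : Type u) [Group Q] (M : Type*) [AddCommGroup M] [DistribMulAction Q M] (q : ℕ) :
    Prop where
  hq : q.Prime
  torsion : ∀ m : M, q • m = 0
  ne : ∃ m : M, m ≠ 0
  tri : ∀ x : Q, x ^ q = 1 ∨ ((orderOf x).Coprime q ∧ ∀ m : M, x • m = m → m = 0)
  norm : ∀ x : Q, x ≠ 1 → x ^ q = 1 → ∀ m : M, ∑ j ∈ range q, x ^ j • m = 0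

variable [Finite Q] {q : ℕ}

theorem NormHyp.not_commute (h : NormHyp Q M q) {a b : Q} (ha : a ^ q = 1) (ha1 : a ≠ 1)
    (hb : (orderOf b).Coprime q) (hb1 : b ≠ 1) : ¬ Commute a b := by
  intro hc
  haveI := Fact.mk h.hq
  have hoa : orderOf a = q := orderOf_eq_prime ha ha1
  have hab : orderOf (a * b) = q * orderOf b := by
    rw [hc.orderOf_mul_eq_mul_orderOf_of_coprime (by rw [hoa]; exact hb.symm), hoa]
  rcases h.tri (a * b) with h1 | ⟨h1, -⟩
  · have h2 := orderOf_dvd_of_pow_eq_one h1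
    rw [hab] at h2
    have h3 : orderOf b ∣ 1 := (Nat.mul_dvd_mul_iff_left h.hq.pos).1 (by rwa [mul_one])
    exact hb1 (orderOf_eq_one_iff.1 (Nat.dvd_one.1 h3))
  · rw [hab] at h1
    exact h.hq.ne_one (Nat.coprime_self q |>.1 h1.coprime_mul_right)

theorem NormHyp.no_normalize (h : NormHyp Q M q) {g : Q} (hg : g ^ q = 1) (hg1 : g ≠ 1)
    {K : Subgroup Q} (hK : (Nat.card K).Coprime q) (hK1 : K ≠ ⊥) :
    ¬ ∀ k ∈ K, g * k * g⁻¹ ∈ K := by
  intro hgK
  have hcop : ∀ k ∈ K, (orderOf k).Coprime q := fun k hk =>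
    hK.coprime_dvd_left (Subgroup.orderOf_dvd_natCard K hk)
  obtain ⟨k₀, hk₀, hk₀1⟩ := (Subgroup.bot_or_exists_ne_one K).resolve_left hK1
  have hfpf : ∀ m : M, k₀ • m = m → m = 0 := by
    refine ((h.tri k₀).resolve_left fun e => hk₀1 ?_).2
    exact orderOf_eq_one_iff.1 (Nat.eq_one_of_dvd_coprimes (hcop k₀ hk₀) dvd_rfl
      (orderOf_dvd_of_pow_eq_one e))
  have hz := card_nsmul_eq_zero (M := M) h.hq K g hg hgK
    (fun k hk hc => by_contra fun hk1 => h.not_commute hg hg1 (hcop k hk) hk1 hc)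
    (fun k _ => h.norm _ (fun e => hg1 (conj_eq_one_iff.1 e)) (by rw [conj_pow, hg]; group))
    ⟨k₀, hk₀, hfpf⟩
  obtain ⟨m, hm⟩ := h.ne
  exact hm (AddMonoid.addOrderOf_eq_one_iff.1 (Nat.eq_one_of_dvd_coprimes hK
    (addOrderOf_dvd_of_nsmul_eq_zero (hz m)) (addOrderOf_dvd_of_nsmul_eq_zero (h.torsion m))))

theorem NormHyp.pow_eq_one_of_prime_pow (h : NormHyp Q M q) {x : Q} (hx : ∃ k, orderOf x = q ^ k) :
    x ^ q = 1 := by
  rcases h.tri x with h1 | ⟨h1, -⟩
  · exact h1
  obtain ⟨k, hk⟩ := hx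
  have : orderOf x = 1 := Nat.eq_one_of_dvd_coprimes h1 dvd_rfl (by
    rw [hk] at h1 ⊢
    rcases Nat.eq_zero_or_pos k with rfl | hk0
    · simp
    · exact absurd ((Nat.coprime_pow_left_iff hk0 _ _).1 h1) (fun e => h.hq.ne_one ((Nat.coprime_self q).1 e)))
  rw [orderOf_eq_one_iff.1 this, one_pow]

/-- The elements of order `q` form a normal subgroup. -/
theorem NormHyp.exists_normal (h : NormHyp Q M q) :
    ∃ P : Subgroup Q, P.Normal ∧ ∀ x, x ∈ P ↔ x ^ q = 1 := by
  classical
  haveI := Fact.mk h.hq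
  -- it suffices to find a subgroup with these elements
  suffices hs : ∃ P : Subgroup Q, ∀ x, x ∈ P ↔ x ^ q = 1 by
    obtain ⟨P, hP⟩ := hs
    exact ⟨P, ⟨fun x hx g => (hP _).2 (by rw [conj_pow, (hP x).1 hx]; group)⟩, hP⟩
  rcases eq_or_ne q 2 with h2 | h2
  · -- involutions commute
    subst h2
    have hmul : ∀ x y : Q, x ^ 2 = 1 → y ^ 2 = 1 → (x * y) ^ 2 = 1 := by
      intro x y hx hy
      by_contra hz
      rcases eq_or_ne x 1 with rfl | hx1
      · exact hz (by rwa [one_mul])
      have hzc := ((h.tri (x * y)).resolve_left hz).1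
      refine h.no_normalize hx hx1 (K := Subgroup.zpowers (x * y)) (by rwa [Nat.card_zpowers]) ?_ ?_
      · rw [Ne, Subgroup.zpowers_eq_bot]; exact fun e => hz (by rw [e, one_pow])
      · intro k hk
        obtain ⟨i, rfl⟩ := Subgroup.mem_zpowers_iff.1 hk
        rw [← conj_zpow]
        refine Subgroup.zpow_mem _ ?_ i
        have : x * (x * y) * x⁻¹ = (x * y)⁻¹ := by
          rw [pow_two] at hx hy
          rw [← mul_assoc x x y, hx, one_mul, mul_inv_rev, inv_eq_of_mul_eq_one_left hx,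
            inv_eq_of_mul_eq_one_left hy]
        rw [this]
        exact inv_mem (Subgroup.mem_zpowers _)
    exact ⟨{ carrier := {x | x ^ 2 = 1}, one_mem' := one_pow 2, mul_mem' := fun hx hy => hmul _ _ hx hy,
             inv_mem' := fun hx => by rw [Set.mem_ofPred_eq, inv_pow, hx, inv_one] }, fun x => Iff.rfl⟩
  by_cases heven : Even (Nat.card Q)
  · -- an involution inverts the module
    haveI := Fact.mk Nat.prime_two
    obtain ⟨i, hi⟩ := exists_prime_orderOf_dvd_card' (G := Q) 2 (even_iff_two_dvd.1 heven)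
    have hii : i * i = 1 := by rw [← pow_two, ← hi, pow_orderOf_eq_one]
    have hineg : ∀ m : M, i • m = -m := by
      intro m
      refine eq_neg_of_add_eq_zero_right ((((h.tri i).resolve_left fun e => ?_).2) _ ?_)
      · have := orderOf_dvd_of_pow_eq_one e
        rw [hi] at this
        exact h2 ((Nat.prime_dvd_prime_iff_eq Nat.prime_two h.hq).1 this).symm
      · rw [smul_add, smul_smul, hii, one_smul, add_comm]
    obtain ⟨m₀, hm₀⟩ := h.ne
    have hneg0 : ∀ m : M, -m = m → m = 0 := fun m hm => by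
      have h1 : 2 • m = 0 := by
        rw [two_nsmul]; nth_rw 1 [← hm]; exact neg_add_cancel m
      exact AddMonoid.addOrderOf_eq_one_iff.1 (Nat.eq_one_of_dvd_coprimes
        ((Nat.coprime_primes Nat.prime_two h.hq).2 (Ne.symm h2))
        (addOrderOf_dvd_of_nsmul_eq_zero h1) (addOrderOf_dvd_of_nsmul_eq_zero (h.torsion m)))
    refine ⟨{ carrier := {x | ∀ m : M, x • m = m}
              one_mem' := fun m => one_smul Q m
              mul_mem' := fun {a b} ha hb m => by rw [mul_smul, hb, ha]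
              inv_mem' := fun {a} ha m => inv_smul_eq_iff.2 (ha m).symm }, fun g => ⟨fun hg => ?_, fun hg => ?_⟩⟩
    · rcases h.tri g with h1 | ⟨-, h1⟩
      · exact h1
      · exact absurd (h1 _ (hg m₀)) hm₀
    show ∀ m : M, g • m = m
    intro m
    have hact : ∀ (n : ℕ) (m : M), (i * g) ^ n • m = (-1 : ℤ) ^ n • (g ^ n • m) := by
      intro n
      induction n with
      | zero => simp
      | succ n ih =>
        intro m
        rw [pow_succ, mul_smul, ih, mul_smul, hineg, smul_neg, ← mul_smul, ← pow_succ, pow_succ (-1 : ℤ),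
          mul_smul, neg_smul, one_smul, smul_neg]
    have hqodd : Odd q := h.hq.odd_of_ne_two h2
    rcases h.tri (i * g) with h1 | ⟨h1, -⟩
    · have := hact q m₀
      rw [h1, one_smul, hg, one_smul, hqodd.neg_one_pow, neg_smul, one_smul] at this
      exact absurd (hneg0 _ this.symm) hm₀
    set n := orderOf (i * g) with hn
    have hgn : ∀ m : M, (-1 : ℤ) ^ n • (g ^ n • m) = m := fun m => by
      rw [← hact, hn, pow_orderOf_eq_one, one_smul]
    rcases Nat.even_or_odd n with hne | hno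
    · obtain ⟨r, hr⟩ := exists_pow_eq_self_of_coprime
        (h1.coprime_dvd_right (orderOf_dvd_of_pow_eq_one hg))
      have hfix : g ^ n • m = m := by
        have := hgn m
        rwa [hne.neg_one_pow, one_smul] at this
      rw [← hr]
      clear hr
      induction r with
      | zero => rw [pow_zero, one_smul]
      | succ r ih => rw [pow_succ, mul_smul, hfix, ih]
    · have hgn' : ∀ (k : ℕ) (m : M), (g ^ n) ^ k • m = (-1 : ℤ) ^ k • m := by
        intro k
        induction k with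
        | zero => simp
        | succ k ih =>
          intro m
          have h3 := hgn m
          rw [hno.neg_one_pow, neg_smul, one_smul, neg_eq_iff_eq_neg] at h3
          rw [pow_succ, mul_smul, h3, smul_neg, ih, pow_succ, mul_neg, mul_one, neg_smul]
      have := hgn' q m₀
      rw [← pow_mul, mul_comm, pow_mul, hg, one_pow, one_smul, hqodd.neg_one_pow, neg_smul, one_smul] at this
      exact absurd (hneg0 _ this.symm) hm₀
  -- odd order
  have hsol : Group.IsSolvable Q := S0205.result (Nat.not_even_iff_odd.1 heven)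
  set s : Set (Subgroup Q) := {N | N.Normal ∧ IsPGroup q N}
  obtain ⟨P₀, ⟨hP₀n, hP₀p⟩, hmax⟩ := (Set.toFinite s).exists_maximal ⟨⊥, inferInstance, IsPGroup.of_bot⟩
  haveI := hP₀n
  refine ⟨P₀, fun x => ⟨fun hx => h.pow_eq_one_of_prime_pow ?_, fun hx => ?_⟩⟩
  · obtain ⟨k, hk⟩ := IsPGroup.iff_orderOf.1 hP₀p ⟨x, hx⟩
    exact ⟨k, by rw [← hk, Subgroup.orderOf_mk]⟩
  by_contra hxP
  -- a nontrivial normal subgroup of prime power order in the quotient
  haveI := hsol
  haveI : Group.IsSolvable (Q ⧸ P₀) := inferInstance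
  haveI : Nontrivial (Q ⧸ P₀) :=
    ⟨⟨QuotientGroup.mk x, 1, fun e => hxP ((QuotientGroup.eq_one_iff x).1 e)⟩⟩
  obtain ⟨A, hAn, hA1, hAc⟩ := exists_abelian_normal (Q ⧸ P₀)
  obtain ⟨a, ha, ha1⟩ := (Subgroup.bot_or_exists_ne_one A).resolve_left hA1
  set r := (orderOf a).minFac with hrdef
  have hr : r.Prime := Nat.minFac_prime (fun e => ha1 (orderOf_eq_one_iff.1 e))
  haveI := Fact.mk hr
  let B : Subgroup (Q ⧸ P₀) :=
    { carrier := {y | y ∈ A ∧ y ^ r = 1}
      one_mem' := ⟨one_mem _, one_pow r⟩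
      mul_mem' := fun {y z} hy hz => ⟨mul_mem hy.1 hz.1, by
        rw [(hAc y hy.1 z hz.1).mul_pow, hy.2, hz.2, one_mul]⟩
      inv_mem' := fun {y} hy => ⟨inv_mem hy.1, by rw [inv_pow, hy.2, inv_one]⟩ }
  haveI hBn : B.Normal := ⟨fun y hy g => ⟨hAn.conj_mem y hy.1 g, by rw [conj_pow, hy.2]; group⟩⟩
  have hB1 : B ≠ ⊥ := by
    intro e
    have hmem : a ^ (orderOf a / r) ∈ B := ⟨pow_mem ha _, by
      rw [← pow_mul, Nat.div_mul_cancel (Nat.minFac_dvd _), pow_orderOf_eq_one]⟩
    rw [e, Subgroup.mem_bot] at hmem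
    have := orderOf_pow_orderOf_div (orderOf_pos a).ne' (Nat.minFac_dvd (orderOf a))
    rw [hmem, orderOf_one] at this
    exact hr.ne_one this.symm
  have hBr : IsPGroup r B := fun y => ⟨1, Subtype.ext (by rw [pow_one]; exact y.2.2)⟩
  set L := B.comap (QuotientGroup.mk' P₀) with hL
  haveI : L.Normal := inferInstance
  have hPL : P₀ ≤ L := fun y hy => by
    show QuotientGroup.mk' P₀ y ∈ B
    rw [show QuotientGroup.mk' P₀ y = 1 from (QuotientGroup.eq_one_iff y).2 hy]
    exact one_mem _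
  have hPL' : ¬ L ≤ P₀ := fun hle => hB1 (by
    rw [← Subgroup.map_comap_eq_self_of_surjective (QuotientGroup.mk'_surjective P₀) B, ← hL,
      Subgroup.map_eq_bot_iff, QuotientGroup.ker_mk']
    exact hle)
  have hrq : r ≠ q := fun e => hPL' (by
    refine hmax ⟨inferInstance, ?_⟩ hPL
    rw [← e] at hP₀p ⊢
    exact hBr.comap_of_ker_isPGroup _ (by rwa [QuotientGroup.ker_mk']))
  obtain ⟨K, -⟩ : ∃ K : Sylow r L, True := ⟨default, trivial⟩
  set K' := (K : Subgroup L).map L.subtype with hK'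
  have hKP : ∀ y ∈ L, ∃ j : ℕ, y ^ r ^ j ∈ P₀ := fun y hy => by
    obtain ⟨j, hj⟩ := hBr ⟨QuotientGroup.mk' P₀ y, hy⟩
    refine ⟨j, (QuotientGroup.eq_one_iff _).1 ?_⟩
    simpa using congrArg Subtype.val hj
  have hK1 : K' ≠ ⊥ := by
    rw [Ne, Subgroup.map_eq_bot_iff_of_injective _ L.subtype_injective]
    refine K.ne_bot_of_dvd_card ?_
    by_contra hndvd
    refine hPL' fun y hy => ?_
    obtain ⟨j, hj⟩ := hKP y hy
    have hcop : (r ^ j).Coprime (orderOf y) := by
      refine Nat.Coprime.pow_left j ((hr.coprime_iff_not_dvd).2 fun hd => hndvd ?_)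
      exact hd.trans ((Subgroup.orderOf_mk y hy).symm ▸ orderOf_dvd_natCard _)
    obtain ⟨k, hk⟩ := exists_pow_eq_self_of_coprime hcop
    rw [← hk]
    exact pow_mem hj k
  have hKcop : (Nat.card K').Coprime q := by
    obtain ⟨k, hk⟩ := (K.isPGroup'.map L.subtype).exists_card_eq
    rw [hK', hk]
    exact Nat.Coprime.pow_left k ((Nat.coprime_primes hr h.hq).2 hrq)
  -- Frattini: `x = n * l`
  have hF : Subgroup.normalizer (K' : Set Q) ⊔ L = ⊤ := Sylow.normalizer_sup_eq_top K
  obtain ⟨n, hn, l, hl, hnl⟩ := Subgroup.mem_sup_of_normal_right.1 (hF.ge (Subgroup.mem_top x))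
  have hLle : L ≤ K' ⊔ P₀ := by
    intro y hy
    have hsup : ((K : Subgroup L) ⊔ P₀.subgroupOf L) = ⊤ := by
      rw [← Subgroup.index_eq_one]
      refine Nat.eq_one_of_dvd_coprimes (a := (K : Subgroup L).index)
        (b := (P₀.subgroupOf L).index) ?_ (Subgroup.index_dvd_of_le le_sup_left)
        (Subgroup.index_dvd_of_le le_sup_right)
      have hp : IsPGroup r (L ⧸ P₀.subgroupOf L) := by
        intro z
        induction z using QuotientGroup.induction_on with
        | H w =>
          obtain ⟨j, hj⟩ := hKP w w.2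
          exact ⟨j, (QuotientGroup.eq_one_iff _).2 (by simpa [Subgroup.mem_subgroupOf] using hj)⟩
      obtain ⟨k, hk⟩ := hp.exists_card_eq
      rw [Subgroup.index_eq_card (P₀.subgroupOf L), hk]
      exact Nat.Coprime.pow_right k ((hr.coprime_iff_not_dvd).2 K.not_dvd_index).symm
    have h1 : y ∈ ((K : Subgroup L) ⊔ P₀.subgroupOf L).map L.subtype := ⟨⟨y, hy⟩, hsup ▸ Subgroup.mem_top _, rfl⟩
    rw [Subgroup.map_sup] at h1
    exact sup_le_sup le_rfl (Subgroup.map_subgroupOf_eq_of_le hPL).le h1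
  obtain ⟨k, hk, p, hp, hkp⟩ := Subgroup.mem_sup_of_normal_right.1 (hLle hl)
  have hn' : n * k ∈ Subgroup.normalizer (K' : Set Q) := mul_mem hn (Subgroup.le_normalizer hk)
  have hxnk : n * k = x * p⁻¹ := by rw [← hnl, ← hkp]; group
  have hgrp : IsPGroup q ↥(Subgroup.zpowers x ⊔ P₀) :=
    IsPGroup.to_sup_of_normal_right (IsPGroup.of_card (n := 1) (by
      rw [Nat.card_zpowers, orderOf_eq_prime hx (fun e => hxP (e ▸ one_mem _)), pow_one])) hP₀p
  have hnk : (n * k) ^ q = 1 := by
    refine h.pow_eq_one_of_prime_pow ?_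
    obtain ⟨j, hj⟩ := IsPGroup.iff_orderOf.1 hgrp ⟨n * k, hxnk ▸ mul_mem
      (Subgroup.mem_sup_left (Subgroup.mem_zpowers x)) (Subgroup.mem_sup_right (inv_mem hp))⟩
    exact ⟨j, by rw [← hj, Subgroup.orderOf_mk]⟩
  refine h.no_normalize hnk (fun e => hxP ?_) hKcop hK1 fun y hy => (Subgroup.mem_normalizer_iff.1 hn' y).1 hy
  rw [e] at hxnk
  rw [mul_inv_eq_one.1 hxnk.symm]
  exact hp
where
  exists_abelian_normal (H : Type u) [Group H] [Finite H] [Group.IsSolvable H] [Nontrivial H] :
      ∃ A : Subgroup H, A.Normal ∧ A ≠ ⊥ ∧ ∀ a ∈ A, ∀ b ∈ A, Commute a b := by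
    classical
    obtain ⟨n, hn⟩ := ‹Group.IsSolvable H›.solvable
    induction n with
    | zero => exact absurd hn top_ne_bot
    | succ n ih =>
      by_cases h0 : derivedSeries H n = ⊥
      · exact ih h0
      refine ⟨derivedSeries H n, derivedSeries_normal H n, h0, fun a ha b hb => ?_⟩
      have h1 : ⁅a, b⁆ ∈ derivedSeries H (n + 1) := by
        rw [derivedSeries_succ]; exact Subgroup.commutator_mem_commutator ha hb
      rw [hn, Subgroup.mem_bot] at h1
      exact commutatorElement_eq_one_iff_mul_comm.1 h1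

end Cfsg.Agent.Grp.Partn
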