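import Mathlib
import Cfsg.Prelude.Def_Solvable
import Cfsg.Agent.Lib.Grp.Partition.NormZero
import Cfsg.Agent.Lib.Grp.Zassenhaus.Basics

/-!
A normal subgroup outside which the elements have order `q` or act without fixed points: the Hughes
subgroup is proper or the group is a Frobenius group.
-/

set_option autoImplicit false
set_option linter.unusedSectionVars false
set_option linter.style.haveILetI false

namespace Cfsg.Agent.Grp.Partn

open Subgroup
open scoped IsMulCommutative

universe u

variable {G : Type u} [Group G]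

/-- The Hughes subgroup for some prime is proper, or the group is a Frobenius group. -/
def Goal (G : Type u) [Group G] : Prop :=
  (∃ p : ℕ, p.Prime ∧ closure {g : G | g ^ p ≠ 1} ≠ ⊤) ∨
    ∃ H : Subgroup G, Cfsg.IsFrobeniusComplement H

/-- A proper normal subgroup on which the outer elements act without fixed points is a Frobenius
kernel. -/
theorem exists_frobeniusComplement [Finite G] {X : Subgroup G} [X.Normal] (h1 : X ≠ ⊥) (h2 : X ≠ ⊤)
    (hfpf : ∀ g ∉ X, ∀ y ∈ X, Commute g y → y = 1) :
    ∃ H : Subgroup G, Cfsg.IsFrobeniusComplement H := by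
  have hcop : (Nat.card X).Coprime X.index := by
    refine Nat.coprime_of_dvd fun r hr hrX hri => ?_
    haveI := Fact.mk hr
    obtain ⟨R⟩ : Nonempty (Sylow r G) := inferInstance
    have hRX : ¬ (R : Subgroup G) ≤ X := fun hle =>
      R.not_dvd_index (hri.trans (index_dvd_of_le hle))
    obtain ⟨g, hgR, hgX⟩ := SetLike.not_le_iff_exists.1 hRX
    letI : MulAction (zpowers g) X :=
      MulAction.compHom X ((MulAut.conjNormal (H := X)).comp (zpowers g).subtype)
    have hP : IsPGroup r (zpowers g) := R.isPGroup'.to_le (zpowers_le.2 hgR)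
    obtain ⟨y, hy, hy1⟩ := hP.exists_fixed_point_of_prime_dvd_card_of_fixed_point X hrX
      (a := (1 : X)) (fun k => map_one ((MulAut.conjNormal (H := X)) (k : G)))
    have h := congrArg Subtype.val (hy ⟨g, mem_zpowers g⟩)
    change g * (y : G) * g⁻¹ = y at h
    exact hy1 (Subtype.ext (hfpf g hgX y y.2 (mul_inv_eq_iff_eq_mul.1 h)).symm)
  obtain ⟨H, hH⟩ := exists_right_complement'_of_coprime hcop
  refine ⟨H, Zas.isFrobeniusComplement_of_isComplement' hH h1 (fun e => h2 ?_) fun h hh hh1 => ?_⟩
  · rw [e] at hH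
    simpa using isComplement'_bot_right.1 hH
  refine (eq_bot_iff_forall _).2 fun y hy => hfpf h (fun hX => hh1 ?_) y hy.1
    (mem_centralizer_singleton_iff.1 hy.2).symm
  exact disjoint_def.1 hH.disjoint hX hh

section action

variable {X V : Subgroup G} [X.Normal] [V.Normal] (hc : ∀ x ∈ X, ∀ v ∈ V, Commute x v)
include hc

/-- Conjugation on a normal subgroup centralized by `X`. -/
noncomputable def quotConj : G ⧸ X →* MulAut V :=
  QuotientGroup.lift X MulAut.conjNormal fun x hx => MulEquiv.ext fun v => Subtype.ext (by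
    rw [MulAut.conjNormal_apply, MulAut.one_apply, (hc x hx v v.2).eq, mul_inv_cancel_right])

/-- The quotient as a group of operators. -/
noncomputable abbrev quotAct : DistribMulAction (G ⧸ X) (Additive V) where
  smul g m := Additive.ofMul (quotConj hc g m.toMul)
  one_smul m := by
    show Additive.ofMul (quotConj hc 1 m.toMul) = m
    rw [map_one]; rfl
  mul_smul a b m := by
    show Additive.ofMul (quotConj hc (a * b) m.toMul) = Additive.ofMul (quotConj hc a _)
    rw [map_mul]; rfl
  smul_zero g := by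
    show Additive.ofMul (quotConj hc g 1) = 0
    rw [map_one]; rfl
  smul_add g m n := by
    show Additive.ofMul (quotConj hc g (m.toMul * n.toMul)) = _
    rw [map_mul]; rfl

theorem smul_coe (g : G) (m : Additive V) :
    letI := quotAct hc
    (((g : G ⧸ X) • m : Additive V).toMul : G) = g * (m.toMul : G) * g⁻¹ := by
  show ((quotConj hc (g : G ⧸ X) m.toMul : V) : G) = _
  exact MulAut.conjNormal_apply g _

theorem commute_of_fixed {g : G} {m : Additive V}
    (h : letI := quotAct hc; (g : G ⧸ X) • m = m) : Commute g (m.toMul : G) := by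
  have h1 := smul_coe hc g m
  simp only [h] at h1
  exact (mul_inv_eq_iff_eq_mul.1 h1.symm)

variable [IsMulCommutative V]

theorem pow_mul_formula (g : G) (v : V) (n : ℕ) :
    letI := quotAct hc
    ((v : G) * g) ^ n =
      ((∑ j ∈ Finset.range n, ((g : G ⧸ X)) ^ j • Additive.ofMul v : Additive V).toMul : G) * g ^ n := by
  letI := quotAct hc
  induction n with
  | zero => simp
  | succ n ih =>
    rw [pow_succ, ih, Finset.sum_range_succ, toMul_add, Subgroup.coe_mul, ← QuotientGroup.mk_pow,
      smul_coe hc (g ^ n), pow_succ]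
    simp [mul_assoc]

theorem norm_eq_zero {g : G} {n : ℕ} (hg : g ^ n = 1) (h : ∀ v ∈ V, (v * g) ^ n = 1)
    (m : Additive V) :
    letI := quotAct hc
    ∑ j ∈ Finset.range n, ((g : G ⧸ X)) ^ j • m = 0 := by
  letI := quotAct hc
  have h1 := pow_mul_formula hc g m.toMul n
  rw [h _ m.toMul.2, hg, mul_one, ofMul_toMul] at h1
  exact Additive.toMul.injective (Subtype.ext h1.symm)

end action

/-- Outside `X` an element has order `q`, or order prime to `q` and no fixed points on `V ≤ X`. -/
structure Core (X V : Subgroup G) (q : ℕ) : Prop where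
  hq : q.Prime
  Xn : X.Normal
  Vn : V.Normal
  VX : V ≤ X
  V1 : V ≠ ⊥
  Vexp : ∀ v ∈ V, v ^ q = 1
  cent : ∀ x ∈ X, ∀ v ∈ V, Commute x v
  out : ∀ g ∉ X, g ^ q = 1 ∨ ((orderOf g).Coprime q ∧ ∀ v ∈ V, Commute g v → v = 1)

variable [Finite G] {X V : Subgroup G} {q : ℕ}

theorem Core.pow_eq_one (h : Core X V q) {g : G} (hg : g ∉ X) (hgq : g ^ q ∈ X) : g ^ q = 1 := by
  rcases h.out g hg with h1 | ⟨h1, -⟩
  · exact h1
  obtain ⟨r, hr⟩ := exists_pow_eq_self_of_coprime h1.symm
  exact absurd (hr ▸ pow_mem hgq r) hg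

theorem Core.exists_P (h : Core X V q) :
    ∃ P : Subgroup G, P.Normal ∧ X ≤ P ∧ ∀ g, g ∈ P ↔ g ^ q ∈ X := by
  haveI := h.Xn
  haveI := h.Vn
  haveI : IsMulCommutative V := ⟨⟨fun a b => Subtype.ext (h.cent a (h.VX a.2) b b.2).eq⟩⟩
  haveI := Fact.mk h.hq
  letI := quotAct h.cent
  have hyp : NormHyp (G ⧸ X) (Additive V) q := by
    refine ⟨h.hq, fun m => ?_, ?_, fun x => ?_, fun x hx1 hxq m => ?_⟩
    · exact Additive.toMul.injective (Subtype.ext (by
        rw [toMul_nsmul, SubmonoidClass.coe_pow]; exact h.Vexp _ m.toMul.2))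
    · obtain ⟨v, hv, hv1⟩ := (Subgroup.bot_or_exists_ne_one V).resolve_left h.V1
      exact ⟨Additive.ofMul ⟨v, hv⟩, fun e => hv1 (congrArg (fun z : Additive V => (z.toMul : G)) e)⟩
    · induction x using QuotientGroup.induction_on with
      | H g =>
        by_cases hg : g ∈ X
        · left; rw [(QuotientGroup.eq_one_iff g).2 hg, one_pow]
        rcases h.out g hg with h1 | ⟨h1, h2⟩
        · left; rw [← QuotientGroup.mk_pow, h1, QuotientGroup.mk_one]
        · refine Or.inr ⟨h1.coprime_dvd_left (orderOf_map_dvd (QuotientGroup.mk' X) g), fun m hm => ?_⟩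
          exact Additive.toMul.injective (Subtype.ext (h2 _ m.toMul.2 (commute_of_fixed h.cent hm)))
    · induction x using QuotientGroup.induction_on with
      | H g =>
        have hgX : g ∉ X := fun e => hx1 ((QuotientGroup.eq_one_iff g).2 e)
        have hq' : g ^ q ∈ X := (QuotientGroup.eq_one_iff _).1 hxq
        refine norm_eq_zero h.cent (h.pow_eq_one hgX hq') (fun v hv => ?_) m
        refine h.pow_eq_one (fun e => hgX ((mul_mem_cancel_left (h.VX hv)).1 e)) ?_
        refine (QuotientGroup.eq_one_iff _).1 ?_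
        rw [QuotientGroup.mk_pow, QuotientGroup.mk_mul, (QuotientGroup.eq_one_iff v).2 (h.VX hv), one_mul]
        exact hxq
  obtain ⟨P, hPn, hP⟩ := hyp.exists_normal
  haveI := hPn
  refine ⟨P.comap (QuotientGroup.mk' X), inferInstance, fun x hx => ?_, fun g => ?_⟩
  · show QuotientGroup.mk' X x ∈ P
    rw [show QuotientGroup.mk' X x = 1 from (QuotientGroup.eq_one_iff x).2 hx]
    exact one_mem _
  · rw [mem_comap, hP, ← map_pow]
    exact QuotientGroup.eq_one_iff _

theorem Core.hughes (h : Core X V q) (hX : X ≠ ⊤) (hall : ∀ g : G, g ^ q ∈ X) : Goal G :=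
  Or.inl ⟨q, h.hq, ne_top_of_le_ne_top hX ((closure_le _).2 fun g hg =>
    by_contra fun hgX => hg (h.pow_eq_one hgX (hall g)))⟩

/-- If `X` is a proper `q`-subgroup, the Hughes subgroup is proper or the group is a Frobenius group. -/
theorem Core.finish (h : Core X V q) (hX : X ≠ ⊤) (hXq : IsPGroup q X) : Goal G := by
  haveI := Fact.mk h.hq
  obtain ⟨P, hPn, hXP, hP⟩ := h.exists_P
  haveI := hPn
  by_cases hPt : P = ⊤
  · exact h.hughes hX fun g => (hP g).1 (hPt ▸ mem_top g)
  refine Or.inr (exists_frobeniusComplement (X := P) (fun e => h.V1 (le_bot_iff.1 (e ▸ h.VX.trans hXP))) hPt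
    fun g hg y hy hc => ?_)
  by_contra hy1
  obtain ⟨j, hj⟩ := hXq ⟨y ^ q, (hP y).1 hy⟩
  have hjy : y ^ q ^ (j + 1) = 1 := by
    rw [pow_succ', pow_mul]
    simpa using congrArg Subtype.val hj
  have hgX : g ∉ X := fun e => hg (hXP e)
  have hgq : g ^ q ∉ X := fun e => hg ((hP g).2 e)
  have hgcop : (orderOf g).Coprime q :=
    ((h.out g hgX).resolve_left fun e => hgq (e ▸ one_mem _)).1
  obtain ⟨i, -, hi⟩ := (Nat.dvd_prime_pow h.hq).1 (orderOf_dvd_of_pow_eq_one hjy)
  have hi0 : i ≠ 0 := fun e => hy1 (orderOf_eq_one_iff.1 (by rw [hi, e, pow_zero]))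
  have hgyP : g * y ∉ P := fun e => hg ((mul_mem_cancel_right hy).1 e)
  have hcop2 : (orderOf (g * y)).Coprime q :=
    ((h.out (g * y) fun e => hgyP (hXP e)).resolve_left fun e => hgyP ((hP _).2 (e ▸ one_mem _))).1
  rw [hc.orderOf_mul_eq_mul_orderOf_of_coprime (by rw [hi]; exact hgcop.pow_right i), hi] at hcop2
  exact h.hq.ne_one ((Nat.coprime_self q).1 ((Nat.coprime_pow_left_iff (Nat.pos_of_ne_zero hi0) _ _).1
    hcop2.coprime_mul_left))

end Cfsg.Agent.Grp.Partn
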