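import Mathlib
import Cfsg.Agent.Lib.Grp.Partition.Basic
import Cfsg.Agent.Lib.Grp.Partition.Core

/-!
An elementary abelian normal subgroup in a partitioned group without normal components: the group is
the symmetric group of degree four, a Frobenius group, or has a proper Hughes subgroup.
-/

set_option autoImplicit false
set_option linter.unusedSectionVars false
set_option linter.style.haveILetI false

namespace Cfsg.Agent.Grp.Partn

open Subgroup
open scoped IsMulCommutative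

universe u

variable {G : Type u} [Group G] [Finite G]

/-- An elementary abelian normal subgroup contained in no component. -/
structure Part.Elem (P : Part G) (A : Subgroup G) (p : ℕ) : Prop where
  hp : p.Prime
  An : A.Normal
  A1 : A ≠ ⊥
  exp : ∀ a ∈ A, a ^ p = 1
  comm : ∀ a ∈ A, ∀ b ∈ A, Commute a b
  notle : ∀ x : G, x ≠ 1 → ¬ A ≤ P.C x

namespace Part.Elem

variable {P : Part G} {A : Subgroup G} {p : ℕ} (h : P.Elem A p)
include h

theorem le_normalizer {x a : G} (hx : x ≠ 1) (ha : a ∈ A) (hax : a ∈ P.C x) (ha1 : a ≠ 1) :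
    A ≤ normalizer (P.C x : Set G) :=
  fun b hb => P.mem_normalizer_of_commute hx ha1 hax (h.comm b hb a ha)

theorem ne_one {b g : G} (hb : b ∉ P.C g) : b ≠ 1 := fun e => hb (e ▸ one_mem _)

theorem meet_pgroup {x a : G} (hx : x ≠ 1) (ha : a ∈ A) (hax : a ∈ P.C x) (ha1 : a ≠ 1) {y : G}
    (hy : y ∈ P.C x) : ∃ k, orderOf y = p ^ k := by
  rcases eq_or_ne y 1 with rfl | hy1
  · exact ⟨0, by simp⟩
  refine ⟨_, Nat.eq_prime_pow_of_unique_prime_dvd (orderOf_pos y).ne' fun {r} hr hry => ?_⟩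
  by_contra hrp
  haveI := Fact.mk hr
  obtain ⟨b, hb, hbx⟩ := SetLike.not_le_iff_exists.1 (h.notle x hx)
  have hbN := h.le_normalizer hx ha hax ha1 hb
  have hnil := P.nilpotent_of_ne hx hbN hbx
  set w := y ^ (orderOf y / r) with hw
  have hwo : orderOf w = r := orderOf_pow_orderOf_div (orderOf_pos y).ne' hry
  have hwx : w ∈ P.C x := pow_mem hy _
  have hw1 : w ≠ 1 := fun e => hr.ne_one (by rw [← hwo, e, orderOf_one])
  set c := b * w * b⁻¹ * w⁻¹ with hc
  have hcA : c ∈ A := by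
    rw [hc, show b * w * b⁻¹ * w⁻¹ = b * (w * b⁻¹ * w⁻¹) by group]
    exact mul_mem hb (h.An.conj_mem _ (inv_mem hb) w)
  have hcx : c ∈ P.C x := mul_mem (P.conj_mem_iff hbN hwx) (inv_mem hwx)
  have hcw : Commute c w := by
    refine P.commute_of_coprime hnil hcx hwx ?_
    rw [hwo]
    exact ((Nat.coprime_primes h.hp hr).2 (Ne.symm hrp)).coprime_dvd_left
      (orderOf_dvd_of_pow_eq_one (h.exp c hcA))
  have hcr : c ^ r = 1 := by
    have e : (c * w) ^ r = 1 := by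
      rw [hc, inv_mul_cancel_right, conj_pow, ← hwo, pow_orderOf_eq_one]; group
    rwa [hcw.mul_pow, show w ^ r = 1 from hwo ▸ pow_orderOf_eq_one w, mul_one] at e
  have hc1 : c = 1 := orderOf_eq_one_iff.1 (Nat.eq_one_of_dvd_coprimes
    ((Nat.coprime_primes h.hp hr).2 (Ne.symm hrp)) (orderOf_dvd_of_pow_eq_one (h.exp c hcA))
    (orderOf_dvd_of_pow_eq_one hcr))
  have hbw : Commute w b := by
    have e : b * w * b⁻¹ = w := mul_inv_eq_one.1 hc1
    exact (mul_inv_eq_iff_eq_mul.1 e).symm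
  have hb1 : b ≠ 1 := h.ne_one hbx
  haveI := Fact.mk h.hp
  obtain ⟨-, hord⟩ := P.prime_of_commute hw1 hb1 hbw (by rwa [P.eq_of_mem hx hw1 hwx])
  rw [orderOf_eq_prime (h.exp b hb) hb1, hwo] at hord
  exact hrp hord.symm

/-- An element has `p`-power order, or order prime to `p` and no fixed points on `A`. -/
theorem out (g : G) :
    (∃ k, orderOf g = p ^ k) ∨ ((orderOf g).Coprime p ∧ ∀ a ∈ A, Commute g a → a = 1) := by
  haveI := Fact.mk h.hp
  haveI := h.An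
  rcases eq_or_ne g 1 with rfl | hg1
  · exact Or.inl ⟨0, by simp⟩
  by_cases hmeet : ∃ a ∈ A, a ∈ P.C g ∧ a ≠ 1
  · obtain ⟨a, ha, hag, ha1⟩ := hmeet
    exact Or.inl (h.meet_pgroup hg1 ha hag ha1 (P.mem g))
  push Not at hmeet
  by_cases hfix : ∀ a ∈ A, Commute g a → a = 1
  swap
  · push Not at hfix
    obtain ⟨a, ha, hc, ha1⟩ := hfix
    obtain ⟨-, hord⟩ := P.prime_of_commute hg1 ha1 hc fun e => ha1 (hmeet a ha e)
    exact Or.inl ⟨1, by rw [pow_one, ← hord, orderOf_eq_prime (h.exp a ha) ha1]⟩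
  refine Or.inr ⟨((h.hp.coprime_iff_not_dvd).2 fun hd => ?_).symm, hfix⟩
  set g' := g ^ (orderOf g / p) with hg'
  have hog : orderOf g' = p := orderOf_pow_orderOf_div (orderOf_pos g).ne' hd
  have hg'1 : g' ≠ 1 := fun e => h.hp.ne_one (by rw [← hog, e, orderOf_one])
  letI : MulAction (zpowers g') A :=
    MulAction.compHom A ((MulAut.conjNormal (H := A)).comp (zpowers g').subtype)
  have hp : IsPGroup p (zpowers g') := IsPGroup.of_card (n := 1) (by rw [Nat.card_zpowers, hog, pow_one])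
  have hpA : p ∣ Nat.card A := by
    obtain ⟨v, hv, hv1⟩ := (Subgroup.bot_or_exists_ne_one A).resolve_left h.A1
    rw [← orderOf_eq_prime (h.exp v hv) hv1]; exact A.orderOf_dvd_natCard hv
  obtain ⟨v, hv, hv1⟩ := hp.exists_fixed_point_of_prime_dvd_card_of_fixed_point A hpA
    (a := (1 : A)) (fun k => map_one ((MulAut.conjNormal (H := A)) (k : G)))
  have h' := congrArg Subtype.val (hv ⟨g', mem_zpowers g'⟩)
  change g' * (v : G) * g'⁻¹ = v at h'
  have hvg : Commute g' (v : G) := mul_inv_eq_iff_eq_mul.1 h'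
  have hv1' : (v : G) ≠ 1 := fun e => hv1 (Subtype.ext e.symm)
  have hvY : (v : G) ∈ normalizer (P.C g : Set G) :=
    P.mem_normalizer_of_commute hg1 hg'1 (pow_mem (P.mem g) _) hvg.symm
  have hcm : g * (v * g⁻¹ * (v : G)⁻¹) = 1 := by
    refine hmeet _ ?_ (mul_mem (P.mem g) (P.conj_mem_iff hvY (inv_mem (P.mem g))))
    rw [show g * ((v : G) * g⁻¹ * (v : G)⁻¹) = g * v * g⁻¹ * (v : G)⁻¹ by group]
    exact mul_mem (h.An.conj_mem _ v.2 g) (inv_mem v.2)
  refine hv1' (hfix v v.2 ?_)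
  show g * (v : G) = v * g
  calc g * (v : G) = g * (v * g⁻¹ * (v : G)⁻¹) * (v * g) := by group
    _ = v * g := by rw [hcm, one_mul]

theorem pow_eq_one_of_centralizes {g : G} (hg : ∀ a ∈ A, Commute g a) : g ^ p = 1 := by
  by_contra hne
  haveI := Fact.mk h.hp
  have hg1 : g ≠ 1 := fun e => hne (by rw [e, one_pow])
  obtain ⟨b, hb, hbg⟩ := SetLike.not_le_iff_exists.1 (h.notle g hg1)
  obtain ⟨-, hord⟩ := P.prime_of_commute hg1 (h.ne_one hbg) (hg b hb) hbg
  rw [orderOf_eq_prime (h.exp b hb) (h.ne_one hbg)] at hord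
  exact hne (hord ▸ pow_orderOf_eq_one g)

/-- An element of order a higher power of `p`. -/
theorem big {g : G} (hg : ∃ k, orderOf g = p ^ k) (hgp : g ^ p ≠ 1) :
    p = 2 ∧ (∃ a ∈ A, a ∈ P.C g ∧ a ≠ 1) ∧
      ∀ b ∈ A, b ∉ P.C g → ∀ b' ∈ A, b' ∉ P.C g → b * b' ∈ P.C g := by
  haveI := Fact.mk h.hp
  haveI := h.An
  obtain ⟨k, hk⟩ := hg
  have hg1 : g ≠ 1 := fun e => hgp (by rw [e, one_pow])
  set Y := P.C g with hY
  obtain ⟨v, hv, hv1⟩ : ∃ v ∈ A, Commute g v ∧ v ≠ 1 := by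
    letI : MulAction (zpowers g) A :=
      MulAction.compHom A ((MulAut.conjNormal (H := A)).comp (zpowers g).subtype)
    have hp : IsPGroup p (zpowers g) := IsPGroup.of_card (n := k) (by rw [Nat.card_zpowers, hk])
    have hpA : p ∣ Nat.card A := by
      obtain ⟨v, hv, hv1⟩ := (Subgroup.bot_or_exists_ne_one A).resolve_left h.A1
      rw [← orderOf_eq_prime (h.exp v hv) hv1]; exact A.orderOf_dvd_natCard hv
    obtain ⟨v, hv, hv1⟩ := hp.exists_fixed_point_of_prime_dvd_card_of_fixed_point A hpA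
      (a := (1 : A)) (fun j => map_one ((MulAut.conjNormal (H := A)) (j : G)))
    have h' := congrArg Subtype.val (hv ⟨g, mem_zpowers g⟩)
    change g * (v : G) * g⁻¹ = v at h'
    exact ⟨v, v.2, mul_inv_eq_iff_eq_mul.1 h', fun e => hv1 (Subtype.ext e.symm)⟩
  have hvY : v ∈ Y := by
    by_contra hvY
    obtain ⟨-, hord⟩ := P.prime_of_commute hg1 hv1.2 hv1.1 hvY
    rw [orderOf_eq_prime (h.exp v hv) hv1.2] at hord
    exact hgp (hord ▸ pow_orderOf_eq_one g)
  have hAN := h.le_normalizer hg1 hv hvY hv1.2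
  have hpow : ∀ b ∈ A, b ∉ Y → (b * g) ^ p = 1 := by
    intro b hb hbY
    have hind : ∀ n : ℕ, (b ^ n)⁻¹ * (b * g) ^ n ∈ Y := by
      intro n
      induction n with
      | zero => simp
      | succ n ih =>
        have h2 := mul_mem (P.conj_mem_iff (inv_mem (hAN hb)) ih) (P.mem g)
        rw [show (b ^ (n + 1))⁻¹ * (b * g) ^ (n + 1) = b⁻¹ * ((b ^ n)⁻¹ * (b * g) ^ n) * b * g by
          rw [pow_succ, pow_succ]; group]
        rwa [inv_inv] at h2
    have h1 := hind p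
    rw [h.exp b hb, inv_one, one_mul] at h1
    exact P.pow_eq_one_of_notMem hg1 (fun e => hbY ((mul_mem_cancel_right (P.mem g)).1 e)) h1
  haveI : IsMulCommutative A := ⟨⟨fun a b => Subtype.ext (h.comm a a.2 b b.2).eq⟩⟩
  letI := quotAct (X := A) (V := A) h.comm
  set F : Additive A → Additive A := fun m => ∑ j ∈ Finset.range p, (g : G ⧸ A) ^ j • m with hF
  have hFadd : ∀ m n, F (m + n) = F m + F n := fun m n => by simp [hF, smul_add, Finset.sum_add_distrib]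
  have hFg : ∀ b : A, (b : G) ∉ Y → ((F (Additive.ofMul b)).toMul : G) = (g ^ p)⁻¹ := fun b hbY => by
    have := pow_mul_formula (X := A) (V := A) h.comm g b p
    rw [hpow b b.2 hbY] at this
    exact eq_inv_of_mul_eq_one_left this.symm
  have key : ∀ b ∈ A, b ∉ Y → ∀ b' ∈ A, b' ∉ Y → b * b' ∈ Y := by
    intro b hb hbY b' hb' hbY'
    by_contra hn
    have h1 := hFg ⟨b, hb⟩ hbY
    have h2 := hFg ⟨b', hb'⟩ hbY'
    have h3 := hFg (⟨b, hb⟩ * ⟨b', hb'⟩) hn
    rw [ofMul_mul, hFadd, toMul_add, Subgroup.coe_mul, h1, h2] at h3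
    exact hgp (inv_eq_one.1 (mul_eq_left.1 h3))
  refine ⟨?_, ⟨v, hv, hvY, hv1.2⟩, key⟩
  by_contra hp2
  obtain ⟨b, hb, hbY⟩ := SetLike.not_le_iff_exists.1 (h.notle g hg1)
  have h2 : b ^ 2 ∈ Y := by rw [pow_two]; exact key b hb hbY b hb hbY
  obtain ⟨r, hr⟩ := exists_pow_eq_self_of_coprime (x := b) (n := 2)
    (by rw [orderOf_eq_prime (h.exp b hb) (h.ne_one hbY)]; exact (Nat.coprime_primes Nat.prime_two h.hp).2 (Ne.symm hp2))
  exact hbY (hr ▸ pow_mem h2 r)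

end Part.Elem

/-- The permutations of the non-identity elements induced by automorphisms. -/
def autToPerm (A : Type u) [Group A] : MulAut A →* Equiv.Perm {a : A // a ≠ 1} where
  toFun e := e.toEquiv.subtypeEquiv fun a => (map_ne_one_iff e e.injective).symm
  map_one' := Equiv.ext fun _ => Subtype.ext rfl
  map_mul' _ _ := Equiv.ext fun _ => Subtype.ext rfl

/-- A partitioned group without normal components and with an elementary abelian normal subgroup. -/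
theorem Part.goal_or_sym (P : Part G) (hno : ∀ x : G, x ≠ 1 → ¬ (P.C x).Normal) {A₀ : Subgroup G}
    [hA₀n : A₀.Normal] {p : ℕ} (hp : p.Prime) (hA₀1 : A₀ ≠ ⊥) (hexp : ∀ a ∈ A₀, a ^ p = 1)
    (hcomm : ∀ a ∈ A₀, ∀ b ∈ A₀, Commute a b) :
    Nonempty (G ≃* Equiv.Perm (Fin 4)) ∨ Goal G := by
  classical
  haveI := Fact.mk hp
  have h₀ : P.Elem A₀ p := ⟨hp, hA₀n, hA₀1, hexp, hcomm, fun x hx hle => hno x hx ⟨fun y hy g => by
    obtain ⟨a, ha, ha1⟩ := (Subgroup.bot_or_exists_ne_one A₀).resolve_left hA₀1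
    exact P.conj_mem_iff (P.mem_normalizer_of_conj hx ha1 (hle ha) (hle (hA₀n.conj_mem a ha g))) hy⟩⟩
  have hcent : ∀ {g : G}, g ∈ centralizer (A₀ : Set G) ↔ ∀ a ∈ A₀, Commute g a := fun {g} =>
    mem_centralizer_iff.trans ⟨fun h a ha => (h a ha).symm, fun h a ha => (h a ha).eq.symm⟩
  have hA₀X : A₀ ≤ centralizer (A₀ : Set G) := fun a ha => hcent.2 fun b hb => hcomm a ha b hb
  haveI : (centralizer (A₀ : Set G)).Normal := inferInstance
  by_cases hbig : ∀ g : G, (∃ k, orderOf g = p ^ k) → g ^ p = 1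
  · right
    have hXp : IsPGroup p (centralizer (A₀ : Set G)) := fun g =>
      ⟨1, Subtype.ext (by rw [pow_one]; exact h₀.pow_eq_one_of_centralizes (hcent.1 g.2))⟩
    have hcore : Core (centralizer (A₀ : Set G)) A₀ p := ⟨hp, inferInstance, hA₀n, hA₀X, hA₀1, hexp,
      fun _ hg a ha => hcent.1 hg a ha, fun g _ => (h₀.out g).imp (hbig g) id⟩
    by_cases hX : centralizer (A₀ : Set G) = ⊤
    · refine Or.inl ⟨p, hp, ?_⟩
      have hempty : {g : G | g ^ p ≠ 1} = ∅ := Set.eq_empty_iff_forall_notMem.2 fun g hg =>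
        hg (h₀.pow_eq_one_of_centralizes (hcent.1 (hX ▸ mem_top g)))
      rw [hempty, Subgroup.closure_empty]
      intro e
      exact hA₀1 (le_bot_iff.1 (e ▸ le_top))
    · exact hcore.finish hX hXp
  push Not at hbig
  obtain ⟨g₁, hg₁, hg₁p⟩ := hbig
  obtain ⟨rfl, -, -⟩ := h₀.big hg₁ hg₁p
  left
  set A := centralizer (A₀ : Set G) with hA
  have hsq : ∀ a ∈ A, a ^ 2 = 1 := fun a ha => h₀.pow_eq_one_of_centralizes (hcent.1 ha)
  have hinv : ∀ a ∈ A, a⁻¹ = a := fun a ha =>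
    inv_eq_of_mul_eq_one_right (by rw [← pow_two]; exact hsq a ha)
  have h : P.Elem A 2 := ⟨hp, inferInstance, fun e => hA₀1 (le_bot_iff.1 (e ▸ hA₀X)), hsq,
    fun a ha b hb => by
      show a * b = b * a
      calc a * b = (a * b)⁻¹ := (hinv _ (mul_mem ha hb)).symm
        _ = b * a := by rw [mul_inv_rev, hinv a ha, hinv b hb],
    fun x hx hle => h₀.notle x hx (hA₀X.trans hle)⟩
  have hself : ∀ {g : G}, (∀ a ∈ A, Commute g a) → g ∈ A := fun {g} hg =>
    hcent.2 fun a ha => hg a (hA₀X ha)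
  have hg₁1 : g₁ ≠ 1 := fun e => hg₁p (by rw [e, one_pow])
  -- a conjugate in another component
  obtain ⟨t, ht⟩ : ∃ t : G, P.C (t * g₁ * t⁻¹) ≠ P.C g₁ := by
    by_contra hc
    push Not at hc
    exact hno g₁ hg₁1 ⟨fun y hy g => hc g ▸ P.conj g g₁ y hy⟩
  set g₂ := t * g₁ * t⁻¹ with hg₂
  have hg₂o : orderOf g₂ = orderOf g₁ := (MulAut.conj t).orderOf_eq g₁
  have hg₂1 : g₂ ≠ 1 := fun e => hg₁1 (conj_eq_one_iff.1 e)
  have hg₂p : g₂ ^ 2 ≠ 1 := fun e => hg₁p (by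
    rw [hg₂, conj_pow] at e; exact conj_eq_one_iff.1 e)
  obtain ⟨-, ⟨β₁, hβ₁, hβ₁Y, hβ₁1⟩, key₁⟩ := h.big hg₁ hg₁p
  obtain ⟨-, ⟨β₂, hβ₂, hβ₂Y, hβ₂1⟩, key₂⟩ := h.big (g := g₂) (hg₂o ▸ hg₁) hg₂p
  have hdisj : ∀ y, y ∈ P.C g₁ → y ∈ P.C g₂ → y = 1 := fun y h1 h2 => by_contra fun hy =>
    ht (P.eq_of_common hg₂1 hg₁1 hy h2 h1)
  have hnot₂ : β₂ ∉ P.C g₁ := fun e => hβ₂1 (hdisj _ e hβ₂Y)
  have hnot₁ : β₁ ∉ P.C g₂ := fun e => hβ₁1 (hdisj _ hβ₁Y e)
  have hone₁ : ∀ y ∈ A, y ∈ P.C g₁ → y = 1 ∨ y = β₁ := fun y hy hyY => by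
    rcases eq_or_ne y 1 with rfl | hy1
    · exact Or.inl rfl
    right
    have h1 := key₂ y hy (fun e => hy1 (hdisj y hyY e)) β₁ hβ₁ hnot₁
    rw [eq_inv_of_mul_eq_one_left (hdisj _ (mul_mem hyY hβ₁Y) h1), hinv β₁ hβ₁]
  have hone₂ : ∀ y ∈ A, y ∈ P.C g₂ → y = 1 ∨ y = β₂ := fun y hy hyY => by
    rcases eq_or_ne y 1 with rfl | hy1
    · exact Or.inl rfl
    right
    have h1 := key₁ y hy (fun e => hy1 (hdisj y e hyY)) β₂ hβ₂ hnot₂
    rw [eq_inv_of_mul_eq_one_left (hdisj _ h1 (mul_mem hyY hβ₂Y)), hinv β₂ hβ₂]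
  have h22 : β₂ * β₂ = 1 := by rw [← pow_two]; exact hsq β₂ hβ₂
  have h11 : β₁ * β₁ = 1 := by rw [← pow_two]; exact hsq β₁ hβ₁
  have hlist : ∀ a ∈ A, a = 1 ∨ a = β₁ ∨ a = β₂ ∨ a = β₁ * β₂ := by
    intro a ha
    by_cases haY : a ∈ P.C g₁
    · rcases hone₁ a ha haY with e | e
      · exact Or.inl e
      · exact Or.inr (Or.inl e)
    rcases hone₁ _ (mul_mem ha hβ₂) (key₁ a ha haY β₂ hβ₂ hnot₂) with e | e
    · exact Or.inr (Or.inr (Or.inl (by rw [eq_inv_of_mul_eq_one_left e, hinv β₂ hβ₂])))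
    · exact Or.inr (Or.inr (Or.inr (by rw [← e, mul_assoc, h22, mul_one])))
  -- conjugation by `g₁` and `g₂`
  have hne12 : β₁ ≠ β₂ := fun e => hnot₂ (e ▸ hβ₁Y)
  have hact₁ : g₁ * β₁ * g₁⁻¹ = β₁ ∧ g₁ * β₂ * g₁⁻¹ = β₁ * β₂ := by
    have hb1 : g₁ * β₁ * g₁⁻¹ = β₁ :=
      (hone₁ _ (h.An.conj_mem _ hβ₁ g₁) (mul_mem (mul_mem (P.mem g₁) hβ₁Y) (inv_mem (P.mem g₁)))).resolve_left
        fun e => hβ₁1 (conj_eq_one_iff.1 e)
    refine ⟨hb1, ?_⟩
    rcases hlist _ (h.An.conj_mem _ hβ₂ g₁) with e | e | e | e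
    · exact absurd (conj_eq_one_iff.1 e) hβ₂1
    · exact absurd (mul_left_cancel (mul_right_cancel (e.trans hb1.symm))).symm hne12
    · refine absurd ?_ hg₁p
      refine h.exp g₁ (hself fun a ha => ?_)
      have c1 : Commute g₁ β₁ := mul_inv_eq_iff_eq_mul.1 hb1
      have c2 : Commute g₁ β₂ := mul_inv_eq_iff_eq_mul.1 e
      rcases hlist a ha with rfl | rfl | rfl | rfl
      · exact Commute.one_right _
      · exact c1
      · exact c2
      · exact c1.mul_right c2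
    · exact e
  have hact₂ : g₂ * β₂ * g₂⁻¹ = β₂ ∧ g₂ * β₁ * g₂⁻¹ = β₁ * β₂ := by
    have hb2 : g₂ * β₂ * g₂⁻¹ = β₂ :=
      (hone₂ _ (h.An.conj_mem _ hβ₂ g₂) (mul_mem (mul_mem (P.mem g₂) hβ₂Y) (inv_mem (P.mem g₂)))).resolve_left
        fun e => hβ₂1 (conj_eq_one_iff.1 e)
    refine ⟨hb2, ?_⟩
    rcases hlist _ (h.An.conj_mem _ hβ₁ g₂) with e | e | e | e
    · exact absurd (conj_eq_one_iff.1 e) hβ₁1
    · refine absurd ?_ hg₂p
      refine h.exp g₂ (hself fun a ha => ?_)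
      have c1 : Commute g₂ β₁ := mul_inv_eq_iff_eq_mul.1 e
      have c2 : Commute g₂ β₂ := mul_inv_eq_iff_eq_mul.1 hb2
      rcases hlist a ha with rfl | rfl | rfl | rfl
      · exact Commute.one_right _
      · exact c1
      · exact c2
      · exact c1.mul_right c2
    · exact absurd (mul_left_cancel (mul_right_cancel (e.trans hb2.symm))) hne12
    · exact e
  -- the order
  haveI := h.An
  have hA4 : Nat.card A = 4 := by
    have h1 : (A : Set G) = {1, β₁, β₂, β₁ * β₂} := by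
      ext a
      simp only [SetLike.mem_coe, Set.mem_insert_iff, Set.mem_singleton_iff]
      refine ⟨hlist a, ?_⟩
      rintro (rfl | rfl | rfl | rfl)
      exacts [one_mem _, hβ₁, hβ₂, mul_mem hβ₁ hβ₂]
    rw [← SetLike.coe_sort_coe, Nat.card_coe_set_eq, h1,
      Set.ncard_insert_of_notMem ?_ (Set.toFinite _), Set.ncard_insert_of_notMem ?_ (Set.toFinite _),
      Set.ncard_insert_of_notMem ?_ (Set.toFinite _), Set.ncard_singleton]
    · simp only [Set.mem_singleton_iff]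
      exact fun e => hβ₁1 (mul_eq_right.1 e.symm)
    · simp only [Set.mem_insert_iff, Set.mem_singleton_iff]
      rintro (e | e)
      · exact hne12 e
      · exact hβ₂1 (mul_eq_left.1 e.symm)
    · simp only [Set.mem_insert_iff, Set.mem_singleton_iff]
      rintro (e | e | e)
      · exact hβ₁1 e.symm
      · exact hβ₂1 e.symm
      · exact hne12 ((eq_inv_of_mul_eq_one_left e.symm).trans (hinv β₂ hβ₂))
  have hA3 : Nat.card {a : A // a ≠ 1} = 3 := by
    haveI := Fintype.ofFinite A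
    rw [Nat.card_eq_fintype_card, Fintype.card_subtype_compl, Fintype.card_subtype_eq,
      ← Nat.card_eq_fintype_card, hA4]
  -- `G ⧸ A` has order six
  set k := g₁ * g₂ with hk
  have hkβ₂ : k * β₂ * k⁻¹ = β₁ * β₂ := by
    rw [hk, show g₁ * g₂ * β₂ * (g₁ * g₂)⁻¹ = g₁ * (g₂ * β₂ * g₂⁻¹) * g₁⁻¹ by group, hact₂.1, hact₁.2]
  have hkβ₁ : k * β₁ * k⁻¹ = β₂ := by
    rw [hk, show g₁ * g₂ * β₁ * (g₁ * g₂)⁻¹ = g₁ * (g₂ * β₁ * g₂⁻¹) * g₁⁻¹ by group, hact₂.2, conj_mul.symm,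
      hact₁.1, hact₁.2, ← mul_assoc, h11, one_mul]
  have hkβ₁₂ : k * (β₁ * β₂) * k⁻¹ = β₁ := by
    rw [← conj_mul, hkβ₁, hkβ₂, (h.comm β₁ hβ₁ β₂ hβ₂).eq, ← mul_assoc, h22, one_mul]
  have hk3 : k ^ 3 ∈ A := by
    have e1 : k ^ 3 * β₁ * (k ^ 3)⁻¹ = β₁ := by
      rw [show k ^ 3 * β₁ * (k ^ 3)⁻¹ = k * (k * (k * β₁ * k⁻¹) * k⁻¹) * k⁻¹ by simp [pow_succ, mul_assoc],
        hkβ₁, hkβ₂, hkβ₁₂]
    have e2 : k ^ 3 * β₂ * (k ^ 3)⁻¹ = β₂ := by
      rw [show k ^ 3 * β₂ * (k ^ 3)⁻¹ = k * (k * (k * β₂ * k⁻¹) * k⁻¹) * k⁻¹ by simp [pow_succ, mul_assoc],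
        hkβ₂, hkβ₁₂, hkβ₁]
    have c1 : Commute (k ^ 3) β₁ := mul_inv_eq_iff_eq_mul.1 e1
    have c2 : Commute (k ^ 3) β₂ := mul_inv_eq_iff_eq_mul.1 e2
    refine hself fun a ha => ?_
    rcases hlist a ha with rfl | rfl | rfl | rfl
    · exact Commute.one_right _
    · exact c1
    · exact c2
    · exact c1.mul_right c2
  have hkA : k ∉ A := fun e => hne12 (by
    rw [← hkβ₁, ((h.comm k e β₁ hβ₁)).eq, mul_inv_cancel_right])
  have hg₁A : g₁ ∉ A := fun e => hg₁p (hsq g₁ e)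
  have hoA : orderOf (QuotientGroup.mk' A k) = 3 := by
    haveI : Fact (Nat.Prime 3) := ⟨Nat.prime_three⟩
    exact orderOf_eq_prime (by rw [← map_pow]; exact (QuotientGroup.eq_one_iff _).2 hk3)
      fun e => hkA ((QuotientGroup.eq_one_iff k).1 e)
  have hg₁sq : g₁ ^ 2 ∈ A := by
    refine hself fun a ha => ?_
    have e2 : g₁ ^ 2 * β₂ * (g₁ ^ 2)⁻¹ = β₂ := by
      rw [show g₁ ^ 2 * β₂ * (g₁ ^ 2)⁻¹ = g₁ * (g₁ * β₂ * g₁⁻¹) * g₁⁻¹ by simp [pow_succ, mul_assoc], hact₁.2, conj_mul.symm,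
        hact₁.1, hact₁.2, ← mul_assoc, h11, one_mul]
    have c1 : Commute (g₁ ^ 2) β₁ := Commute.pow_left (mul_inv_eq_iff_eq_mul.1 hact₁.1) 2
    have c2 : Commute (g₁ ^ 2) β₂ := mul_inv_eq_iff_eq_mul.1 e2
    rcases hlist a ha with rfl | rfl | rfl | rfl
    · exact Commute.one_right _
    · exact c1
    · exact c2
    · exact c1.mul_right c2
  have hoA2 : orderOf (QuotientGroup.mk' A g₁) = 2 :=
    orderOf_eq_prime (by rw [← map_pow]; exact (QuotientGroup.eq_one_iff _).2 hg₁sq)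
      fun e => hg₁A ((QuotientGroup.eq_one_iff g₁).1 e)
  set φ := (autToPerm A).comp (MulAut.conjNormal (H := A)) with hφ
  have hker : φ.ker = A := by
    refine le_antisymm (fun g hg => hself fun a ha => ?_) fun g hg => Equiv.ext fun a => ?_
    · rcases eq_or_ne a 1 with rfl | ha1
      · exact Commute.one_right g
      have := congrArg (fun π : Equiv.Perm {a : A // a ≠ 1} =>
        ((π ⟨⟨a, ha⟩, fun e => ha1 (congrArg Subtype.val e)⟩).1 : G)) hg
      change ((MulAut.conjNormal g ⟨a, ha⟩ : A) : G) = a at this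
      rw [MulAut.conjNormal_apply] at this
      exact mul_inv_eq_iff_eq_mul.1 this
    · refine Subtype.ext (Subtype.ext ?_)
      show ((MulAut.conjNormal g a.1 : A) : G) = (a.1 : G)
      rw [MulAut.conjNormal_apply, (h.comm g hg _ a.1.2).eq, mul_inv_cancel_right]
  have h6 : A.index = 6 := by
    have h1 : A.index ∣ 6 := by
      rw [← hker, index_ker]
      have := Subgroup.card_subgroup_dvd_card φ.range
      rwa [Nat.card_perm, hA3] at this
    have h2 : 2 * 3 ∣ A.index := (Nat.coprime_primes Nat.prime_two Nat.prime_three).2 (by norm_num) |>.mul_dvd_of_dvd_of_dvd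
      (by rw [index_eq_card, ← hoA2]; exact orderOf_dvd_natCard _)
      (by rw [index_eq_card, ← hoA]; exact orderOf_dvd_natCard _)
    exact Nat.dvd_antisymm h1 h2
  have h24 : Nat.card G = 24 := by rw [← A.card_mul_index, hA4, h6]
  -- the action on the Sylow `3`-subgroups
  haveI : Fact (Nat.Prime 3) := ⟨Nat.prime_three⟩
  have hT3 : ∀ T : Sylow 3 G, Nat.card (T : Subgroup G) = 3 := by
    intro T
    obtain ⟨n, hn⟩ := T.isPGroup'.exists_card_eq
    have h1 := (T : Subgroup G).card_subgroup_dvd_card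
    rw [h24, hn] at h1
    have h2 : ¬ 3 ∣ (T : Subgroup G).index := T.not_dvd_index
    have h3 := (T : Subgroup G).card_mul_index
    rw [h24, hn] at h3
    rcases n with _ | _ | n
    · exfalso; rw [pow_zero, one_mul] at h3; rw [h3] at h2; norm_num at h2
    · exact hn.trans (pow_one 3)
    · exfalso
      have := Nat.dvd_trans (pow_dvd_pow 3 (show 2 ≤ n + 2 by omega)) h1
      norm_num at this
  have hno6 : ∀ (T : Sylow 3 G), ∀ a ∈ A, a ≠ 1 → a ∉ normalizer ((T : Subgroup G) : Set G) := by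
    intro T a ha ha1 haN
    have hne : (T : Subgroup G) ≠ ⊥ := fun e => by have := hT3 T; rw [e, card_bot] at this; omega
    obtain ⟨z, hz, hz1⟩ := (Subgroup.bot_or_exists_ne_one _).resolve_left hne
    have hzo : orderOf z = 3 := orderOf_eq_prime (orderOf_dvd_iff_pow_eq_one.1
      (hT3 T ▸ (T : Subgroup G).orderOf_dvd_natCard hz)) hz1
    have hcm : a * z * a⁻¹ * z⁻¹ = 1 := by
      have h1 : a * z * a⁻¹ * z⁻¹ ∈ A := by
        rw [show a * z * a⁻¹ * z⁻¹ = a * (z * a⁻¹ * z⁻¹) by group]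
        exact mul_mem ha (h.An.conj_mem _ (inv_mem ha) z)
      have h2 : a * z * a⁻¹ * z⁻¹ ∈ (T : Subgroup G) :=
        mul_mem ((mem_normalizer_iff.1 haN z).1 hz) (inv_mem hz)
      exact orderOf_eq_one_iff.1 (Nat.eq_one_of_dvd_coprimes
        ((Nat.coprime_primes Nat.prime_two Nat.prime_three).2 (by norm_num))
        (orderOf_dvd_of_pow_eq_one (hsq _ h1)) (hT3 T ▸ (T : Subgroup G).orderOf_dvd_natCard h2))
    rcases h.out z with ⟨n, hn⟩ | ⟨-, hf⟩
    · rw [hzo] at hn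
      have h3 : 3 ∣ 2 := Nat.prime_three.dvd_of_dvd_pow (dvd_of_eq hn)
      norm_num at h3
    · exact ha1 (hf a ha (mul_inv_eq_iff_eq_mul.1 (mul_inv_eq_one.1 hcm)).symm)
  obtain ⟨a₀, ha₀, ha₀1⟩ : ∃ a ∈ A, a ≠ 1 := ⟨β₁, hβ₁, hβ₁1⟩
  have hn4 : Nat.card (Sylow 3 G) = 4 := by
    obtain ⟨T⟩ : Nonempty (Sylow 3 G) := inferInstance
    have h1 : Nat.card (Sylow 3 G) ∣ 8 := by
      refine T.card_dvd_index.trans (dvd_of_eq ?_)
      have := (T : Subgroup G).card_mul_index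
      rw [hT3 T, h24] at this
      omega
    have h2 : Nat.card (Sylow 3 G) ≠ 1 := fun e => by
      haveI : Subsingleton (Sylow 3 G) := (Nat.card_eq_one_iff_unique.1 e).1
      refine hno6 T a₀ ha₀ ha₀1 ?_
      haveI := Sylow.normal_of_subsingleton T
      rw [normalizer_eq_top]
      exact mem_top _
    have h3 := card_sylow_modEq_one 3 G
    have h4 : Nat.card (Sylow 3 G) ≤ 8 := Nat.le_of_dvd (by norm_num) h1
    rw [Nat.ModEq] at h3
    interval_cases hc : Nat.card (Sylow 3 G) <;> omega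
  set ψ := MulAction.toPermHom G (Sylow 3 G)
  have hψ : Function.Injective ψ := by
    rw [← MonoidHom.ker_eq_bot_iff, eq_bot_iff]
    intro g hg
    have hnorm : ∀ T : Sylow 3 G, ∀ x ∈ ψ.ker, x ∈ normalizer ((T : Subgroup G) : Set G) := fun T x hx =>
      Sylow.smul_eq_iff_mem_normalizer.1 (congrArg (fun π : Equiv.Perm (Sylow 3 G) => π T) hx)
    obtain ⟨T⟩ : Nonempty (Sylow 3 G) := inferInstance
    have hd : Disjoint ψ.ker A := disjoint_def.2 fun {x} hx hxA =>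
      by_contra fun hx1 => hno6 T x hxA hx1 (hnorm T x hx)
    have hgA : g ∈ A := hself fun a ha =>
      commute_of_normal_of_disjoint _ _ inferInstance inferInstance hd g a hg ha
    exact disjoint_def.1 hd hg hgA
  haveI := Fintype.ofFinite (Sylow 3 G)
  have hb : Function.Bijective ψ := (Nat.bijective_iff_injective_and_card ψ).2
    ⟨hψ, by rw [Nat.card_perm, hn4, h24]; rfl⟩
  have e4 : Sylow 3 G ≃ Fin 4 := Finite.equivFinOfCardEq hn4
  exact ⟨(MulEquiv.ofBijective ψ hb).trans e4.permCongrHom⟩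

end Cfsg.Agent.Grp.Partn
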