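import Mathlib
import Cfsg.Agent.Lib.Grp.Frattini
import Cfsg.Agent.Lib.Grp.Partition.Basic
import Cfsg.Agent.Lib.Grp.Partition.Core

/-!
A group with a normal component is a Frobenius group or has a proper Hughes subgroup.
-/

set_option autoImplicit false
set_option linter.unusedSectionVars false
set_option linter.style.haveILetI false

namespace Cfsg.Agent.Grp.Partn

open Subgroup
open scoped IsMulCommutative

universe u

variable {G : Type u} [Group G] [Finite G]

/-- The central elements of `X` of order dividing `p`. -/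
def centralOmega (X : Subgroup G) (p : ℕ) : Subgroup G where
  carrier := {v | v ∈ X ∧ v ^ p = 1 ∧ ∀ z ∈ X, Commute v z}
  one_mem' := ⟨one_mem _, one_pow p, fun z _ => Commute.one_left z⟩
  mul_mem' := fun {a b} ha hb => ⟨mul_mem ha.1 hb.1,
    by rw [(ha.2.2 b hb.1).mul_pow, ha.2.1, hb.2.1, one_mul], fun z hz => (ha.2.2 z hz).mul_left (hb.2.2 z hz)⟩
  inv_mem' := fun {a} ha => ⟨inv_mem ha.1, by rw [inv_pow, ha.2.1, inv_one], fun z hz => (ha.2.2 z hz).inv_left⟩

theorem centralOmega_le (X : Subgroup G) (p : ℕ) : centralOmega X p ≤ X := fun _ hv => hv.1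

instance centralOmega_normal (X : Subgroup G) [hX : X.Normal] (p : ℕ) : (centralOmega X p).Normal :=
  ⟨fun v hv g => ⟨hX.conj_mem v hv.1 g, by rw [conj_pow, hv.2.1]; group, fun z hz => by
    have h := (hv.2.2 _ (hX.conj_mem z hz g⁻¹)).map (MulAut.conj g)
    simpa [mul_assoc] using h⟩⟩

theorem centralOmega_ne_bot {X : Subgroup G} (hnil : Group.IsNilpotent X) {p : ℕ} [hp : Fact p.Prime]
    (hdvd : p ∣ Nat.card X) : centralOmega X p ≠ ⊥ := by
  haveI := hnil
  obtain ⟨T⟩ : Nonempty (Sylow p X) := inferInstance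
  haveI : (T : Subgroup X).Normal := inferInstance
  obtain ⟨w, hw, hw1⟩ := (Subgroup.bot_or_exists_ne_one _).resolve_left
    (inf_center_ne_bot (T : Subgroup X) (T.ne_bot_of_dvd_card hdvd))
  obtain ⟨k, hk⟩ := IsPGroup.iff_orderOf.1 T.isPGroup' ⟨w, hw.1⟩
  rw [Subgroup.orderOf_mk] at hk
  have hdw : p ∣ orderOf w := by
    rw [hk]; exact dvd_pow_self p fun e => hw1 (orderOf_eq_one_iff.1 (by rw [hk, e, pow_zero]))
  intro e
  have hmem : ((w ^ (orderOf w / p) : X) : G) ∈ centralOmega X p := by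
    refine ⟨(w ^ (orderOf w / p)).2, ?_, fun z hz => ?_⟩
    · rw [← SubmonoidClass.coe_pow, ← pow_mul, Nat.div_mul_cancel hdw, pow_orderOf_eq_one, OneMemClass.coe_one]
    · have h := (mem_center_iff.1 (pow_mem hw.2 (orderOf w / p))) ⟨z, hz⟩
      exact (congrArg Subtype.val h).symm
  rw [e, mem_bot, OneMemClass.coe_eq_one] at hmem
  have h2 := orderOf_pow_orderOf_div (orderOf_pos w).ne' hdw
  rw [hmem, orderOf_one] at h2
  exact hp.out.ne_one h2.symm

/-- A normal component: Frobenius group or proper Hughes subgroup. -/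
theorem Part.goal_of_normal (P : Part G) {x : G} (hx : x ≠ 1) [hXn : (P.C x).Normal] : Goal G := by
  classical
  set X := P.C x with hXdef
  have hXt : X ≠ ⊤ := P.ne_top hx
  have hX1 : X ≠ ⊥ := fun e => hx (by have := P.mem x; rwa [← hXdef, e, mem_bot] at this)
  obtain ⟨g₁, -, hg₁⟩ := SetLike.exists_of_lt (lt_top_iff_ne_top.2 hXt)
  have hnil : Group.IsNilpotent X :=
    P.nilpotent_of_ne hx (by rw [normalizer_eq_top]; exact mem_top g₁) hg₁
  have hCX : ∀ y ∈ X, y ≠ 1 → P.C y = X := fun y hy hy1 => P.eq_of_mem hx hy1 hy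
  have hne : ∀ {g v : G}, g ∉ X → v ∈ X → v ≠ 1 → v ∉ P.C g := fun {g v} hg hv hv1 e => by
    have hg1 : g ≠ 1 := fun e => hg (e ▸ one_mem X)
    exact hg (by rw [← hCX v hv hv1, P.eq_of_mem hg1 hv1 e]; exact P.mem g)
  by_cases hfpf : ∀ g ∉ X, ∀ y ∈ X, Commute g y → y = 1
  · exact Or.inr (exists_frobeniusComplement hX1 hXt hfpf)
  push Not at hfpf
  obtain ⟨g₀, hg₀, y₀, hy₀, hc₀, hy₀1⟩ := hfpf
  have hg₀1 : g₀ ≠ 1 := fun e => hg₀ (e ▸ one_mem X)
  obtain ⟨hqp, hqy⟩ := P.prime_of_commute hg₀1 hy₀1 hc₀ (hne hg₀ hy₀ hy₀1)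
  set q := orderOf g₀ with hqdef
  haveI := Fact.mk hqp
  have hqX : q ∣ Nat.card X := hqy ▸ X.orderOf_dvd_natCard hy₀
  set V := centralOmega X q with hV
  have hV1 : V ≠ ⊥ := centralOmega_ne_bot hnil hqX
  have hcore : Core X V q := by
    refine ⟨hqp, hXn, inferInstance, centralOmega_le X q, hV1, fun v hv => hv.2.1,
      fun z hz v hv => (hv.2.2 z hz).symm, fun g hg => ?_⟩
    have hg1 : g ≠ 1 := fun e => hg (e ▸ one_mem X)
    by_cases hfix : ∀ v ∈ V, Commute g v → v = 1
    swap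
    · push Not at hfix
      obtain ⟨v, hv, hc, hv1⟩ := hfix
      obtain ⟨-, hord⟩ := P.prime_of_commute hg1 hv1 hc (hne hg hv.1 hv1)
      left
      rw [← orderOf_eq_prime hv.2.1 hv1, hord]
      exact pow_orderOf_eq_one g
    refine Or.inr ⟨((hqp.coprime_iff_not_dvd).2 fun hd => ?_).symm, hfix⟩
    set g' := g ^ (orderOf g / q) with hg'
    have hog : orderOf g' = q := orderOf_pow_orderOf_div (orderOf_pos g).ne' hd
    have hg'1 : g' ≠ 1 := fun e => hqp.ne_one (by rw [← hog, e, orderOf_one])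
    letI : MulAction (zpowers g') V :=
      MulAction.compHom V ((MulAut.conjNormal (H := V)).comp (zpowers g').subtype)
    have hp : IsPGroup q (zpowers g') := IsPGroup.of_card (n := 1) (by rw [Nat.card_zpowers, hog, pow_one])
    have hqV : q ∣ Nat.card V := by
      obtain ⟨v, hv, hv1⟩ := (Subgroup.bot_or_exists_ne_one V).resolve_left hV1
      rw [← orderOf_eq_prime hv.2.1 hv1]; exact V.orderOf_dvd_natCard hv
    obtain ⟨v, hv, hv1⟩ := hp.exists_fixed_point_of_prime_dvd_card_of_fixed_point V hqV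
      (a := (1 : V)) (fun k => map_one ((MulAut.conjNormal (H := V)) (k : G)))
    have h := congrArg Subtype.val (hv ⟨g', mem_zpowers g'⟩)
    change g' * (v : G) * g'⁻¹ = v at h
    have hvg : Commute g' (v : G) := mul_inv_eq_iff_eq_mul.1 h
    have hvX : (v : G) ∈ X := v.2.1
    have hv1' : (v : G) ≠ 1 := fun e => hv1 (Subtype.ext e.symm)
    have hvY : (v : G) ∈ normalizer (P.C g : Set G) :=
      P.mem_normalizer_of_commute hg1 hg'1 (pow_mem (P.mem g) _) hvg.symm
    have hcm : g * (v * g⁻¹ * (v : G)⁻¹) = 1 := by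
      by_contra hne'
      refine hne hg ?_ hne' (mul_mem (P.mem g) (P.conj_mem_iff hvY (inv_mem (P.mem g))))
      rw [show g * ((v : G) * g⁻¹ * (v : G)⁻¹) = g * v * g⁻¹ * (v : G)⁻¹ by group]
      exact mul_mem (hXn.conj_mem _ hvX g) (inv_mem hvX)
    refine hv1' (hfix v v.2 ?_)
    show g * (v : G) = v * g
    calc g * (v : G) = g * (v * g⁻¹ * (v : G)⁻¹) * (v * g) := by group
      _ = v * g := by rw [hcm, one_mul]
  obtain ⟨Q, hQn, hXQ, hQ⟩ := hcore.exists_P
  haveI := hQn
  by_cases hQt : Q = ⊤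
  · exact hcore.hughes hXt fun g => (hQ g).1 (hQt ▸ mem_top g)
  refine hcore.finish hXt ?_
  obtain ⟨h, -, hhQ⟩ := SetLike.exists_of_lt (lt_top_iff_ne_top.2 hQt)
  have hhX : h ∉ X := fun e => hhQ (hXQ e)
  have hcop_out : ∀ g ∉ Q, (orderOf g).Coprime q := fun g hg =>
    ((hcore.out g fun e => hg (hXQ e)).resolve_left fun e => hg ((hQ g).2 (e ▸ one_mem _))).1
  have hh1 : h ≠ 1 := fun e => hhX (e ▸ one_mem X)
  set r := (orderOf h).minFac with hr
  have hrp : r.Prime := Nat.minFac_prime (fun e => hh1 (orderOf_eq_one_iff.1 e))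
  haveI := Fact.mk hrp
  set w := h ^ (orderOf h / r) with hw
  have hwo : orderOf w = r := orderOf_pow_orderOf_div (orderOf_pos h).ne' (Nat.minFac_dvd _)
  have hrq : r ≠ q := fun e => hqp.ne_one ((Nat.coprime_self q).1
    ((hcop_out h hhQ).coprime_dvd_left (e ▸ Nat.minFac_dvd (orderOf h))))
  have hw1 : w ≠ 1 := fun e => hrp.ne_one (by rw [← hwo, e, orderOf_one])
  have hwX : w ∉ X := fun e => hw1 (P.pow_eq_one_of_notMem hx hhX e)
  have hwQ : w ∉ Q := fun e => hrq ((Nat.prime_dvd_prime_iff_eq hrp hqp).1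
    (hwo ▸ orderOf_dvd_of_pow_eq_one (P.pow_eq_one_of_notMem hx hwX ((hQ w).1 e))))
  have hprimes : ∀ s : ℕ, s.Prime → s ∣ Nat.card X → s = q := by
    intro s hs hsX
    by_contra hsq
    haveI := Fact.mk hs
    set U := centralOmega X s with hU
    have hU1 : U ≠ ⊥ := centralOmega_ne_bot hnil hsX
    obtain ⟨u, hu, hu1⟩ := (Subgroup.bot_or_exists_ne_one U).resolve_left hU1
    haveI : IsMulCommutative U := ⟨⟨fun a b => Subtype.ext (a.2.2.2 b b.2.1).eq⟩⟩
    have hcent : ∀ z ∈ X, ∀ v ∈ U, Commute z v := fun z hz v hv => (hv.2.2 z hz).symm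
    letI := quotAct hcent
    set K := Q.map (QuotientGroup.mk' X) with hK
    haveI hKn : K.Normal := hQn.map _ (QuotientGroup.mk'_surjective X)
    have hKq : IsPGroup q K := by
      rintro ⟨_, z, hz, rfl⟩
      refine ⟨1, Subtype.ext ?_⟩
      show (QuotientGroup.mk' X z) ^ q ^ 1 = 1
      rw [pow_one, ← map_pow]
      exact (QuotientGroup.eq_one_iff _).2 ((hQ z).1 hz)
    have hcardK : (Nat.card K).Coprime s := by
      obtain ⟨k, hk⟩ := hKq.exists_card_eq
      rw [hk]
      exact Nat.Coprime.pow_left k ((Nat.coprime_primes hqp hs).2 (Ne.symm hsq))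
    have hz := card_nsmul_eq_zero (M := Additive U) hrp K (w : G ⧸ X)
      (by rw [← QuotientGroup.mk_pow, ← hwo, pow_orderOf_eq_one, QuotientGroup.mk_one])
      (fun k hk => hKn.conj_mem k hk _) ?_ ?_ ?_ (Additive.ofMul ⟨u, hu⟩)
    · refine hu1 ?_
      have h1 : s • Additive.ofMul (⟨u, hu⟩ : U) = 0 := Additive.toMul.injective (Subtype.ext hu.2.1)
      have h2 := AddMonoid.addOrderOf_eq_one_iff.1 (Nat.eq_one_of_dvd_coprimes hcardK
        (addOrderOf_dvd_of_nsmul_eq_zero hz) (addOrderOf_dvd_of_nsmul_eq_zero h1))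
      exact congrArg (fun z : Additive U => (z.toMul : G)) h2
    · rintro _ ⟨z, hz, rfl⟩ hc
      by_contra hz1
      have hzX : z ∉ X := fun e => hz1 ((QuotientGroup.eq_one_iff z).2 e)
      have hoz : orderOf (QuotientGroup.mk' X z) = q := orderOf_eq_prime
        (by rw [← map_pow]; exact (QuotientGroup.eq_one_iff _).2 ((hQ z).1 hz)) hz1
      have how : orderOf (QuotientGroup.mk' X w) = r := orderOf_eq_prime
        (by rw [← map_pow, ← hwo, pow_orderOf_eq_one, map_one])
        (fun e => hwX ((QuotientGroup.eq_one_iff w).1 e))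
      have hwz : w * z ∉ Q := fun e => hwQ ((mul_mem_cancel_right hz).1 e)
      have h1 := orderOf_map_dvd (QuotientGroup.mk' X) (w * z)
      rw [map_mul, (show Commute (QuotientGroup.mk' X w) (QuotientGroup.mk' X z) from
        hc).orderOf_mul_eq_mul_orderOf_of_coprime
          (by rw [how, hoz]; exact (Nat.coprime_primes hrp hqp).2 hrq), how, hoz] at h1
      exact hqp.ne_one ((Nat.coprime_self q).1
        ((hcop_out _ hwz).coprime_dvd_left ((dvd_mul_left q r).trans h1)))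
    · rintro _ ⟨z, hz, rfl⟩ m
      show ∑ j ∈ Finset.range r, ((z * w * z⁻¹ : G) : G ⧸ X) ^ j • m = 0
      have hzw : z * w * z⁻¹ ∉ X := fun e => hwX (by
        have := hXn.conj_mem _ e z⁻¹; simpa [mul_assoc] using this)
      have hzwr : (z * w * z⁻¹) ^ r = 1 := by rw [conj_pow, ← hwo, pow_orderOf_eq_one]; group
      refine norm_eq_zero hcent hzwr (fun v hv => ?_) m
      refine P.pow_eq_one_of_notMem hx (fun e => hzw ((mul_mem_cancel_left hv.1).1 e)) ?_
      refine (QuotientGroup.eq_one_iff _).1 ?_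
      rw [QuotientGroup.mk_pow, QuotientGroup.mk_mul, (QuotientGroup.eq_one_iff v).2 hv.1, one_mul,
        ← QuotientGroup.mk_pow, hzwr, QuotientGroup.mk_one]
    · refine ⟨(g₀ : G ⧸ X), ⟨g₀, (hQ g₀).2 (by rw [hqdef, pow_orderOf_eq_one]; exact one_mem X), rfl⟩,
        fun m hm => ?_⟩
      refine Additive.toMul.injective (Subtype.ext ?_)
      by_contra hm1
      obtain ⟨-, hord⟩ := P.prime_of_commute hg₀1 hm1 (commute_of_fixed hcent hm)
        (hne hg₀ m.toMul.2.1 hm1)
      exact hsq (by rw [← orderOf_eq_prime m.toMul.2.2.1 hm1, hord])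
  exact IsPGroup.of_card (Nat.eq_prime_pow_of_unique_prime_dvd Nat.card_pos.ne' fun hs hsX => hprimes _ hs hsX)

end Cfsg.Agent.Grp.Partn
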