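import Mathlib
import Cfsg.Agent.Lib.Grp.Partition.Normal
import Cfsg.Agent.Lib.Transfer.MaxSolvTI.Main

/-!
A component of even order and odd index in its normalizer: the group is `PSL(2, 2^n)` or a Suzuki
group.
-/

set_option autoImplicit false
set_option linter.unusedSectionVars false
set_option linter.style.haveILetI false

namespace Cfsg.Agent.Grp.Partn

open Subgroup MulAction Cfsg.Agent
open Cfsg.Agent.Fus.CTSimple (A M mem_A A_le_M)
open Cfsg.Agent.Transfer.TICent (Cfg)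

universe u

variable {G : Type u} [Group G] [Finite G]

/-- A component of odd index in its normalizer, with an involution in its centre. -/
structure Part.OddCfg (P : Part G) (x z : G) : Prop where
  hx : x ≠ 1
  hne : normalizer (P.C x : Set G) ≠ P.C x
  hntop : normalizer (P.C x : Set G) ≠ ⊤
  odd : Odd ((P.C x).subgroupOf (normalizer (P.C x : Set G))).index
  hz : orderOf z = 2
  zmem : z ∈ P.C x
  zcen : ∀ y ∈ P.C x, Commute z y

namespace Part.OddCfg

variable {P : Part G} {x z : G} (h : P.OddCfg x z)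
include h

/-- The base point. -/
local notation "pt₀" => ((1 : G) : G ⧸ normalizer (P.C x : Set G))

theorem z1 : z ≠ 1 := Invol.ne_one_of_orderOf_two h.hz

theorem C_eq {y : G} (hy : y ∈ P.C x) (hy1 : y ≠ 1) : P.C y = P.C x := P.eq_of_mem h.hx hy1 hy

theorem conj_mem {g y : G} (hg : g ∈ normalizer (P.C x : Set G)) (hy : y ∈ P.C x) :
    g * y * g⁻¹ ∈ P.C x := P.conj_mem_iff hg hy

theorem inv_mem_C {i : G} (hi : i ∈ normalizer (P.C x : Set G)) (hi2 : orderOf i = 2) : i ∈ P.C x := by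
  haveI : ((P.C x).subgroupOf (normalizer (P.C x : Set G))).Normal := inferInstance
  have h1 := orderOf_map_dvd (QuotientGroup.mk' ((P.C x).subgroupOf (normalizer (P.C x : Set G)))) ⟨i, hi⟩
  rw [Subgroup.orderOf_mk, hi2] at h1
  have h2 := orderOf_dvd_natCard (G := normalizer (P.C x : Set G) ⧸ (P.C x).subgroupOf (normalizer (P.C x : Set G)))
    (QuotientGroup.mk' _ ⟨i, hi⟩)
  rw [← index_eq_card] at h2
  have h3 := Nat.eq_one_of_dvd_coprimes (Nat.coprime_two_left.2 h.odd) h1 h2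
  exact (QuotientGroup.eq_one_iff (⟨i, hi⟩ : normalizer (P.C x : Set G))).1 (orderOf_eq_one_iff.1 h3)

theorem centralizer_inv {i y : G} (hi : i ∈ P.C x) (hi2 : orderOf i = 2) (hc : Commute y i) : y ∈ P.C x := by
  by_contra hy
  have hi1 := Invol.ne_one_of_orderOf_two hi2
  have hy1 : y ≠ 1 := fun e => hy (e ▸ one_mem _)
  obtain ⟨-, hord⟩ := P.prime_of_commute hi1 hy1 hc.symm (by rwa [h.C_eq hi hi1])
  exact hy (h.inv_mem_C (P.mem_normalizer_of_commute h.hx hi1 hi hc) (hord.trans hi2))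

theorem A_eq : A z = P.C x := le_antisymm (fun a ha => h.centralizer_inv h.zmem h.hz (mem_A.1 ha))
  fun a ha => mem_A.2 (h.zcen a ha).symm

theorem M_eq : M z = normalizer (P.C x : Set G) := by
  show normalizer (A z : Set G) = _
  rw [h.A_eq]

theorem even_N : Even (Nat.card (normalizer (P.C x : Set G))) := by
  rw [even_iff_two_dvd, ← h.hz, ← Subgroup.orderOf_mk z (le_normalizer h.zmem)]
  exact orderOf_dvd_natCard _

theorem se' {i : G} (hi : i ∈ normalizer (P.C x : Set G)) (hi2 : orderOf i = 2) {g : G}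
    (hg : g⁻¹ * i * g ∈ normalizer (P.C x : Set G)) : g ∈ normalizer (P.C x : Set G) := by
  have h2 : orderOf (g⁻¹ * i * g) = 2 := by
    rw [← hi2, ← Invol.orderOf_conj_eq g⁻¹ i, inv_inv]
  refine inv_mem_iff.1 (P.mem_normalizer_of_conj h.hx (Invol.ne_one_of_orderOf_two hi2) (h.inv_mem_C hi hi2) ?_)
  rw [inv_inv]
  exact h.inv_mem_C hg h2

theorem se : Cfsg.IsStronglyEmbedded (normalizer (P.C x : Set G)) :=
  (Invol.isStronglyEmbedded_iff h.hntop h.even_N).2 fun _ hi hi2 _ hg => h.se' hi hi2 hg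

theorem conj_z {i : G} (hi : i ∈ P.C x) (hi2 : orderOf i = 2) :
    ∃ g ∈ normalizer (P.C x : Set G), g * z * g⁻¹ = i := by
  obtain ⟨g, hg⟩ := isConj_iff.1 (Invol.isConj_involutions h.se h.hz hi2)
  exact ⟨g, P.mem_normalizer_of_conj h.hx h.z1 h.zmem (hg ▸ hi), hg⟩

theorem index_le_inv : ((P.C x).subgroupOf (normalizer (P.C x : Set G))).index ≤
    Nat.card {i : G // orderOf i = 2 ∧ i ∈ normalizer (P.C x : Set G)} := by
  rw [index_eq_card]
  refine Nat.card_le_card_of_injective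
    (fun q => (⟨(q.out : G) * z * (q.out : G)⁻¹, by rw [Invol.orderOf_conj_eq, h.hz],
      le_normalizer (h.conj_mem q.out.2 h.zmem)⟩ : {i : G // orderOf i = 2 ∧ i ∈ normalizer (P.C x : Set G)})) ?_
  intro q r e
  have e' : (q.out : G) * z * (q.out : G)⁻¹ = (r.out : G) * z * (r.out : G)⁻¹ := congrArg Subtype.val e
  rw [← QuotientGroup.out_eq' q, ← QuotientGroup.out_eq' r, QuotientGroup.eq]
  show (q.out : G)⁻¹ * (r.out : G) ∈ P.C x
  refine h.centralizer_inv h.zmem h.hz ?_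
  show _ * z = z * _
  calc (q.out : G)⁻¹ * (r.out : G) * z
      = (q.out : G)⁻¹ * ((r.out : G) * z * (r.out : G)⁻¹) * (r.out : G) := by group
    _ = (q.out : G)⁻¹ * ((q.out : G) * z * (q.out : G)⁻¹) * (r.out : G) := by rw [e']
    _ = z * ((q.out : G)⁻¹ * (r.out : G)) := by group

omit [Finite G] h in
theorem smul_pt_iff {g : G} : g • pt₀ = pt₀ ↔ g ∈ normalizer (P.C x : Set G) := by
  rw [Invol.smul_coset_eq_iff, inv_one, one_mul, mul_one]

theorem exists_swap {y y' : G ⧸ normalizer (P.C x : Set G)} (hyy : y ≠ y') :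
    ∃ w : G, orderOf w = 2 ∧ w • y = y' ∧ w • y' = y := by
  have hcard := Invol.card_swap_eq h.se y y' hyy
  have hpos : 0 < Nat.card {i : G // orderOf i = 2 ∧ i ∈ normalizer (P.C x : Set G)} :=
    lt_of_lt_of_le (Nat.pos_of_ne_zero (by
      intro e
      exact absurd (e ▸ h.odd) (by decide))) h.index_le_inv
  obtain ⟨⟨w, hw, hwy⟩⟩ := (Nat.card_pos_iff.mp (hcard ▸ hpos)).1
  exact ⟨w, hw, hwy, by rw [← hwy, smul_smul, Invol.mul_self_of_orderOf_two hw, one_smul]⟩

/-- A non-identity element of the component fixes only the base point. -/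
theorem fix {a : G} (ha : a ∈ P.C x) (ha1 : a ≠ 1) {y : G ⧸ normalizer (P.C x : Set G)}
    (hay : a • y = y) : y = pt₀ := by
  by_contra hy
  obtain ⟨w, hw, hwx, hwy⟩ := h.exists_swap (Ne.symm hy)
  have hwinv : w⁻¹ = w := Invol.inv_of_orderOf_two hw
  have hww : w * w = 1 := Invol.mul_self_of_orderOf_two hw
  have hwN : w ∉ normalizer (P.C x : Set G) := fun e => hy (hwx.symm.trans (smul_pt_iff.2 e))
  set a' := w * a * w⁻¹ with ha'
  have ha'N : a' ∈ normalizer (P.C x : Set G) :=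
    smul_pt_iff.1 (by rw [ha', hwinv, mul_smul, mul_smul, hwx, hay, hwy])
  have hx' : w * x * w⁻¹ ≠ 1 := fun e => h.hx (conj_eq_one_iff.1 e)
  have hdisj : ∀ u, u ∈ P.C x → u ∈ P.C (w * x * w⁻¹) → u = 1 := by
    intro u hu hu'
    by_contra hu1
    have e := P.eq_of_common h.hx hx' hu1 hu hu'
    refine hwN (P.mem_normalizer_of_conj h.hx h.hx (P.mem x) ?_)
    rw [e]; exact P.mem _
  have ha'C : a' ∈ P.C (w * x * w⁻¹) := P.conj w x a ha
  have hcomm : a * a' * a⁻¹ * a'⁻¹ = 1 := by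
    refine hdisj _ ?_ ?_
    · rw [show a * a' * a⁻¹ * a'⁻¹ = a * (a' * a⁻¹ * a'⁻¹) by group]
      exact mul_mem ha (h.conj_mem ha'N (inv_mem ha))
    · refine mul_mem ?_ (inv_mem ha'C)
      have h1 := P.conj w x _ (h.conj_mem ha'N ha)
      have h2 : w * (a' * a * a'⁻¹) * w⁻¹ = a * a' * a⁻¹ := by
        have h3 : w * a' * w⁻¹ = a := by
          rw [ha', hwinv, ← mul_assoc, ← mul_assoc, hww, one_mul, mul_assoc, hww, mul_one]
        calc w * (a' * a * a'⁻¹) * w⁻¹ = (w * a' * w⁻¹) * (w * a * w⁻¹) * (w * a' * w⁻¹)⁻¹ := by group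
          _ = a * a' * a⁻¹ := by rw [h3, ← ha']
      rwa [h2] at h1
  have hc : Commute a a' := mul_inv_eq_iff_eq_mul.1 (mul_inv_eq_one.1 hcomm)
  set d := a * a' with hd
  have hd1 : d ≠ 1 := fun e => ha1 (hdisj a ha (by
    rw [eq_inv_of_mul_eq_one_left e]; exact inv_mem ha'C))
  have hwd : Commute w d := by
    refine mul_inv_eq_iff_eq_mul.1 ?_
    calc w * d * w⁻¹ = (w * a * w⁻¹) * (w * a' * w⁻¹) := by rw [hd]; group
      _ = a' * a := by
        rw [← ha', show w * a' * w⁻¹ = a by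
          rw [ha', hwinv, ← mul_assoc, ← mul_assoc, hww, one_mul, mul_assoc, hww, mul_one]]
      _ = d := hc.eq.symm
  have hdN : d ∈ normalizer (P.C x : Set G) := mul_mem (le_normalizer ha) ha'N
  have hw1 := Invol.ne_one_of_orderOf_two hw
  have hdK : d ∈ P.C w := by
    by_contra e
    obtain ⟨-, hord⟩ := P.prime_of_commute hw1 hd1 hwd e
    have hdX := h.inv_mem_C hdN (hord.trans hw)
    refine ha1 (conj_eq_one_iff.1 (hdisj a' ?_ ha'C : w * a * w⁻¹ = 1))
    have := mul_mem (inv_mem ha) hdX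
    rwa [hd, inv_mul_cancel_left] at this
  have haK : a ∈ normalizer (P.C w : Set G) := by
    refine P.mem_normalizer_of_commute hw1 hd1 hdK ?_
    exact (Commute.refl a).mul_right hc
  have h2 : a * a ∈ P.C w := by
    have h1 : a * w * a⁻¹ * w⁻¹ ∈ P.C w := mul_mem (P.conj_mem_iff haK (P.mem w)) (inv_mem (P.mem w))
    have h3 : a * w * a⁻¹ * w⁻¹ = a * a'⁻¹ := by rw [ha']; group
    rw [h3] at h1
    have := mul_mem h1 hdK
    rwa [hd, show a * a'⁻¹ * (a * a') = a * (a'⁻¹ * (a * a')) by group, hc.eq, inv_mul_cancel_left] at this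
  by_cases haa : a * a = 1
  · have ha2 : orderOf a = 2 := Invol.orderOf_two_iff.2 ⟨haa, ha1⟩
    exact ha1 (conj_eq_one_iff.1 (hdisj a' (h.inv_mem_C ha'N (by rw [ha', Invol.orderOf_conj_eq, ha2])) ha'C :
      w * a * w⁻¹ = 1))
  · exact hwN (le_normalizer ((P.eq_of_common h.hx hw1 haa (mul_mem ha ha) h2).symm ▸ P.mem w))

theorem inf_C {y : G ⧸ normalizer (P.C x : Set G)} (hy : y ≠ pt₀) {d : G}
    (hd : d ∈ stabilizer G pt₀ ⊓ stabilizer G y) (hX : d ∈ P.C x) : d = 1 :=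
  by_contra fun h1 => hy (h.fix hX h1 hd.2)

/-- The two-point stabilisers at the base point. -/
theorem base {y : G ⧸ normalizer (P.C x : Set G)} (hy : y ≠ pt₀) :
    (∀ g ∈ normalizer (P.C x : Set G), ∃ d ∈ stabilizer G pt₀ ⊓ stabilizer G y, d⁻¹ * g ∈ P.C x) ∧
      ∀ w : G, w • pt₀ = y → w • y = pt₀ → orderOf w = 2 := by
  set Pt := stabilizer G pt₀ ⊓ stabilizer G y with hPt
  let f : Pt → normalizer (P.C x : Set G) ⧸ (P.C x).subgroupOf (normalizer (P.C x : Set G)) :=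
    fun d => QuotientGroup.mk ⟨(d : G), smul_pt_iff.1 d.2.1⟩
  have hf : Function.Injective f := fun d e he =>
    Subtype.ext (inv_mul_eq_one.mp (h.inf_C hy (mul_mem (inv_mem d.2) e.2) (by simp only [f, QuotientGroup.eq] at he; exact he)))
  have h1 := Nat.card_le_card_of_injective f hf
  obtain ⟨u, hu, hux, huy⟩ := h.exists_swap (Ne.symm hy)
  have hswap : ∀ i : {i : G // orderOf i = 2 ∧ i • pt₀ = y}, u * (i : G) ∈ Pt := by
    rintro ⟨i, hi, hix⟩
    refine ⟨?_, ?_⟩ <;> show (u * i) • _ = _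
    · rw [mul_smul, hix, huy]
    · have hiy : i • y = pt₀ := by
        rw [← hix, smul_smul, Invol.mul_self_of_orderOf_two hi, one_smul]
      rw [mul_smul, hiy, hux]
  let g : {i : G // orderOf i = 2 ∧ i • pt₀ = y} → Pt := fun i => ⟨_, hswap i⟩
  have hg : Function.Injective g := fun i j e =>
    Subtype.ext (mul_left_cancel (congrArg Subtype.val e))
  have h2 := Nat.card_le_card_of_injective g hg
  have h3 := Invol.card_swap_eq h.se pt₀ y (Ne.symm hy)
  have h4 := h.index_le_inv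
  rw [← index_eq_card] at h1
  refine ⟨fun m hm => ?_, fun w hwx hwy => ?_⟩
  · have hb := (Nat.bijective_iff_injective_and_card f).mpr ⟨hf, by rw [← index_eq_card]; omega⟩
    obtain ⟨d, hd⟩ := hb.2 (QuotientGroup.mk ⟨m, hm⟩)
    simp only [f, QuotientGroup.eq] at hd
    exact ⟨d, d.2, hd⟩
  · have hb := (Nat.bijective_iff_injective_and_card g).mpr ⟨hg, by omega⟩
    obtain ⟨i, hi⟩ := hb.2 ⟨u * w, by
      refine ⟨?_, ?_⟩ <;> show (u * w) • _ = _
      · rw [mul_smul, hwx, huy]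
      · rw [mul_smul, hwy, hux]⟩
    exact (mul_left_cancel (congrArg Subtype.val hi) : (i : G) = w) ▸ i.2.1

theorem inverts {y y' : G ⧸ normalizer (P.C x : Set G)} (hyy : y ≠ y') {w d : G} (hwy : w • y = y')
    (hwy' : w • y' = y) (hd : d • y = y) (hd' : d • y' = y') : w * d * w⁻¹ = d⁻¹ := by
  have hswap : ∀ v : G, v • y = y' → v • y' = y → orderOf v = 2 := by
    intro v hv hv'
    obtain ⟨g, hg⟩ := exists_smul_eq G y pt₀
    have hgy : g⁻¹ • pt₀ = y := inv_smul_eq_iff.mpr hg.symm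
    have h1 := (h.base (y := g • y') (fun e => hyy (MulAction.injective g (hg.trans e.symm)))).2 (g * v * g⁻¹)
      (by rw [mul_smul, mul_smul, hgy, hv]) (by rw [mul_smul, mul_smul, inv_smul_smul, hv', hg])
    rwa [Invol.orderOf_conj_eq] at h1
  have hw := hswap w hwy hwy'
  have hwd := hswap (w * d) (by rw [mul_smul, hd, hwy]) (by rw [mul_smul, hd', hwy'])
  rw [Invol.inv_of_orderOf_two hw]
  exact eq_inv_of_mul_eq_one_left (by rw [mul_assoc]; exact Invol.mul_self_of_orderOf_two hwd)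

/-- No element of the point stabiliser inverts a non-identity element of a two-point stabiliser. -/
theorem not_inverted {y : G ⧸ normalizer (P.C x : Set G)} (hy : y ≠ pt₀) {e d : G}
    (he : e ∈ normalizer (P.C x : Set G)) (hd : d ∈ stabilizer G pt₀ ⊓ stabilizer G y)
    (hed : e * d * e⁻¹ = d⁻¹) : d = 1 := by
  obtain ⟨d', hd', hk⟩ := (h.base hy).1 e he
  obtain ⟨w, -, hwx, hwy⟩ := h.exists_swap (Ne.symm hy)
  have hc : Commute d' d := by
    have h1 := h.inverts (Ne.symm hy) hwx hwy (mul_mem hd' hd).1 (mul_mem hd' hd).2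
    rw [← conj_mul, h.inverts (Ne.symm hy) hwx hwy hd'.1 hd'.2, h.inverts (Ne.symm hy) hwx hwy hd.1 hd.2,
      ← mul_inv_rev] at h1
    exact (inv_injective h1).symm
  have hdN : d ∈ normalizer (P.C x : Set G) := smul_pt_iff.1 hd.1
  have hd'N : d' ∈ normalizer (P.C x : Set G) := smul_pt_iff.1 hd'.1
  set k := d'⁻¹ * e with hkdef
  have hkd : k * d * k⁻¹ = d⁻¹ := by
    calc k * d * k⁻¹ = d'⁻¹ * (e * d * e⁻¹) * d' := by rw [hkdef]; group
      _ = d⁻¹ := by rw [hed, mul_assoc, (hc.inv_right.symm).eq, inv_mul_cancel_left]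
  have hmem : k * (d * k⁻¹ * d⁻¹) ∈ P.C x := mul_mem hk (h.conj_mem hdN (inv_mem hk))
  rw [show k * (d * k⁻¹ * d⁻¹) = k * d * k⁻¹ * d⁻¹ by group, hkd] at hmem
  have h1 := h.inf_C hy (mul_mem (inv_mem hd) (inv_mem hd)) hmem
  rw [← mul_inv_rev, inv_eq_one] at h1
  by_contra hd1
  exact hd1 (h.inf_C hy hd (h.inv_mem_C hdN (Invol.orderOf_two_iff.2 ⟨h1, hd1⟩)))

theorem fpf {y : G ⧸ normalizer (P.C x : Set G)} (hy : y ≠ pt₀) {a d : G} (ha : a ∈ P.C x) (ha1 : a ≠ 1)
    (hd : d ∈ stabilizer G pt₀ ⊓ stabilizer G y) (hc : Commute d a) : d = 1 := by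
  have hax : a • pt₀ = pt₀ := smul_pt_iff.2 (le_normalizer ha)
  have hy1 : a • y ≠ y := fun e => hy (h.fix ha ha1 e)
  have hdy1 : d • a • y = a • y := by
    rw [smul_smul, hc.eq, mul_smul, show d • y = y from hd.2]
  obtain ⟨w, -, hw1, hw2⟩ := h.exists_swap (Ne.symm hy1)
  have hwd := h.inverts (Ne.symm hy1) hw1 hw2 hd.2 hdy1
  -- `w * a` fixes `y` and inverts `d`; move `y` to the base point
  obtain ⟨g, hg⟩ := exists_smul_eq G y pt₀
  have hgy : g⁻¹ • pt₀ = y := inv_smul_eq_iff.mpr hg.symm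
  have hed : g * (w * a) * g⁻¹ * (g * d * g⁻¹) * (g * (w * a) * g⁻¹)⁻¹ = (g * d * g⁻¹)⁻¹ := by
    calc _ = g * (w * (a * d * a⁻¹) * w⁻¹) * g⁻¹ := by group
      _ = g * (w * d * w⁻¹) * g⁻¹ := by rw [← hc.eq, mul_inv_cancel_right]
      _ = _ := by rw [hwd]; group
  have := h.not_inverted (y := g • pt₀) (fun e => hy (MulAction.injective g (hg.trans e.symm)))
    (smul_pt_iff.1 (by rw [mul_smul, mul_smul, hgy, mul_smul, hw2, hg]))
    (d := g * d * g⁻¹) ⟨by show _ • _ = _; rw [mul_smul, mul_smul, hgy, hd.2, hg],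
      by show _ • _ = _; rw [mul_smul, mul_smul, inv_smul_smul, hd.1]⟩ hed
  exact conj_eq_one_iff.1 this

theorem exists_pt_ne : ∃ y : G ⧸ normalizer (P.C x : Set G), y ≠ pt₀ := by
  by_contra hcon
  push Not at hcon
  exact h.hntop (eq_top_iff.mpr fun g _ => smul_pt_iff.1 (hcon _))

theorem cent {a g : G} (ha : a ∈ P.C x) (ha1 : a ≠ 1) (hc : Commute g a) : g ∈ P.C x := by
  by_contra hg
  have hgN := P.mem_normalizer_of_commute h.hx ha1 ha hc
  obtain ⟨y, hy⟩ := h.exists_pt_ne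
  obtain ⟨d, hd, hdg⟩ := (h.base hy).1 g hgN
  have hd1 : d ≠ 1 := fun e => hg (by rwa [e, inv_one, one_mul] at hdg)
  have hdN : d ∈ normalizer (P.C x : Set G) := smul_pt_iff.1 hd.1
  -- `g = k * d` is conjugate to `d` under the component
  let φ : P.C x → P.C x := fun k => ⟨(k : G) * (d * (k : G)⁻¹ * d⁻¹),
    mul_mem k.2 (h.conj_mem hdN (inv_mem k.2))⟩
  have hφ : Function.Injective φ := by
    intro k l e
    have e' : (k : G) * (d * (k : G)⁻¹ * d⁻¹) = (l : G) * (d * (l : G)⁻¹ * d⁻¹) := congrArg Subtype.val e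
    by_contra hkl
    refine hd1 (h.fpf hy (a := (l : G)⁻¹ * k) (mul_mem (inv_mem l.2) k.2)
      (fun e => hkl (Subtype.ext (inv_mul_eq_one.mp e).symm)) hd ?_)
    show d * ((l : G)⁻¹ * k) = (l : G)⁻¹ * k * d
    calc d * ((l : G)⁻¹ * k) = (l : G)⁻¹ * ((l : G) * (d * (l : G)⁻¹ * d⁻¹)) * (d * k) := by group
      _ = (l : G)⁻¹ * ((k : G) * (d * (k : G)⁻¹ * d⁻¹)) * (d * k) := by rw [e']
      _ = (l : G)⁻¹ * k * d := by group
  obtain ⟨k, hk⟩ := (Finite.injective_iff_surjective.1 hφ) ⟨g * d⁻¹, by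
    rw [show g * d⁻¹ = d * (d⁻¹ * g) * d⁻¹ by group]; exact h.conj_mem hdN hdg⟩
  have hk' : g = k * d * (k : G)⁻¹ := by
    have e := congrArg Subtype.val hk
    calc g = g * d⁻¹ * d := by group
      _ = (k : G) * (d * (k : G)⁻¹ * d⁻¹) * d := congrArg (· * d) e.symm
      _ = k * d * (k : G)⁻¹ := by group
  refine hd1 (h.fpf hy (a := (k : G)⁻¹ * a * k) (mul_mem (mul_mem (inv_mem k.2) ha) k.2)
    (fun e => ha1 (conj_eq_one_iff.1 (show (k : G)⁻¹ * a * ((k : G)⁻¹)⁻¹ = 1 by rwa [inv_inv]))) hd ?_)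
  have := hc.map (MulAut.conj (k : G)⁻¹)
  rw [hk'] at this
  simpa [mul_assoc] using this

theorem cfg : ∃ S : Sylow 2 G, Cfg z S := by
  haveI := Fact.mk Nat.prime_two
  have hz2 : IsPGroup 2 (zpowers z) := IsPGroup.of_card (n := 1) (by rw [Nat.card_zpowers, h.hz, pow_one])
  obtain ⟨S, hS⟩ := hz2.exists_le_sylow
  have hzS : z ∈ (S : Subgroup G) := hS (mem_zpowers z)
  obtain ⟨g, hg, hgX⟩ := SetLike.exists_of_lt (lt_of_le_of_ne le_normalizer (Ne.symm h.hne))
  have hnil : Group.IsNilpotent (P.C x) := P.nilpotent_of_ne h.hx hg hgX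
  refine ⟨S, h.hz, ?_, h.A_eq ▸ hnil, ?_, ?_, ?_, h.M_eq ▸ h.hntop, ?_⟩
  · rw [h.A_eq]
    haveI : Nontrivial (S : Subgroup G) :=
      (nontrivial_iff_ne_bot _).2 fun e => h.z1 (by rwa [e, mem_bot] at hzS)
    obtain ⟨w, hw, hw1⟩ := (Subgroup.bot_or_exists_ne_one _).resolve_left
      ((nontrivial_iff_ne_bot _).1 (S.isPGroup'.center_nontrivial : Nontrivial (center (S : Subgroup G))))
    have hcw : ∀ t : (S : Subgroup G), Commute (t : G) w := fun t =>
      congrArg Subtype.val (mem_center_iff.1 hw t)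
    have hwX : (w : G) ∈ P.C x := h.cent h.zmem h.z1 (hcw ⟨z, hzS⟩).symm
    exact fun t ht => h.cent hwX (fun e => hw1 (Subtype.ext e)) (hcw ⟨t, ht⟩)
  · intro g a ha ha1 hga
    rw [h.A_eq] at ha hga
    rw [h.M_eq]
    exact P.mem_normalizer_of_conj h.hx ha1 ha hga
  · intro a y ha ha1 hc
    rw [h.A_eq] at ha ⊢
    exact h.cent ha ha1 hc
  · intro i hi hi2 y hy
    rw [h.A_eq] at hi hy
    obtain ⟨g, hg, rfl⟩ := h.conj_z hi hi2
    have h1 : g⁻¹ * y * g ∈ P.C x := by simpa using h.conj_mem (inv_mem hg) hy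
    have := (h.zcen _ h1).symm.map (MulAut.conj g)
    simpa [mul_assoc] using this
  · rw [h.A_eq, h.M_eq]
    rcases Nat.lt_or_ge 1 ((P.C x).subgroupOf (normalizer (P.C x : Set G))).index with h1 | h1
    · exact h1
    exfalso
    have h0 : ((P.C x).subgroupOf (normalizer (P.C x : Set G))).index ≠ 0 := index_ne_zero_of_finite
    exact h.hne (le_antisymm (subgroupOf_eq_top.1 (index_eq_one.1 (by omega))) le_normalizer)

/-- The classification. -/
theorem classify (hss : ∀ N : Subgroup G, N.Normal → Group.IsSolvable ↥N → N = ⊥) :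
    (∃ (K : Type) (_ : Field K) (_ : Fintype K), 4 ≤ Fintype.card K ∧
      Nonempty (G ≃* Matrix.ProjectiveSpecialLinearGroup (Fin 2) K)) ∨ Cfsg.Lie.IsoSuzuki G := by
  classical
  haveI := Fact.mk Nat.prime_two
  obtain ⟨S, c⟩ := h.cfg
  have hSE := h.se
  set X := P.C x with hX
  set L := normalizer (X : Set G) with hL
  haveI : Nontrivial G := ⟨⟨z, 1, h.z1⟩⟩
  haveI : IsSimpleGroup G := by
    refine ⟨fun N hN => ?_⟩
    by_contra hcon
    push Not at hcon
    obtain ⟨hN1, hNtop⟩ := hcon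
    apply hNtop
    haveI := hN
    have hN2 : 2 ∣ Nat.card N := by
      by_contra h2
      exact hN1 (hss N hN (S0205.result (Nat.odd_iff.2 (Nat.two_dvd_ne_zero.1 h2))))
    obtain ⟨i, hi⟩ := exists_prime_orderOf_dvd_card' (G := N) 2 hN2
    rw [← orderOf_coe] at hi
    have hall : ∀ j : G, orderOf j = 2 → j ∈ N := fun j hj => by
      obtain ⟨g, hg⟩ := isConj_iff.1 (Invol.isConj_involutions hSE hi hj)
      exact hg ▸ hN.conj_mem _ i.2 g
    have hzN : z ∈ N := hall z h.hz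
    have hNL : ¬ N ≤ L := fun hle => h.hntop (eq_top_iff.2 fun g _ =>
      h.se' (le_normalizer h.zmem) h.hz (hle (by simpa using hN.conj_mem z hzN g⁻¹)))
    obtain ⟨n0, hn0, hn0L⟩ := SetLike.not_le_iff_exists.1 hNL
    have hAX := h.A_eq
    have hML := h.M_eq
    have htr : ∀ g : G, ∃ n ∈ N, n⁻¹ * g ∈ L := by
      intro g
      by_cases hg : g ∈ L
      · exact ⟨1, one_mem _, by rwa [inv_one, one_mul]⟩
      obtain ⟨a, ha, hay⟩ := c.A_trans (y := (n0 : G ⧸ M z)) (z := (g : G ⧸ M z))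
        (fun e => hn0L (by
          have := QuotientGroup.eq.1 e; rw [mul_one, hML] at this
          exact inv_mem_iff.1 this))
        (fun e => hg (by
          have := QuotientGroup.eq.1 e; rw [mul_one, hML] at this
          exact inv_mem_iff.1 this))
      refine ⟨a * n0 * a⁻¹, hN.conj_mem _ hn0 a, ?_⟩
      have h1 : ((a * n0 : G) : G ⧸ M z) = (g : G ⧸ M z) := hay
      have h2 := QuotientGroup.eq.1 h1
      rw [hML] at h2
      have haL : a ∈ L := by rw [hAX] at ha; exact le_normalizer ha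
      have h3 := mul_mem haL h2
      rwa [show (a * n0 * a⁻¹)⁻¹ * g = a * ((a * n0)⁻¹ * g) by group]
    have hSEN : Cfsg.IsStronglyEmbedded (L.subgroupOf N) := by
      refine (Invol.isStronglyEmbedded_iff (fun e => hNL (subgroupOf_eq_top.1 e)) ?_).2 ?_
      · rw [even_iff_two_dvd, ← h.hz, ← orderOf_mk z hzN,
          ← orderOf_mk (⟨z, hzN⟩ : N) (show _ ∈ L.subgroupOf N from le_normalizer h.zmem)]
        exact orderOf_dvd_natCard _
      · intro i hi hi2 g hg
        exact h.se' hi ((orderOf_coe i).trans hi2) hg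
    have hcov : ∀ m ∈ L, ∃ n ∈ N, n ∈ L ∧ n⁻¹ * m ∈ X := by
      intro m hm
      have h2 : orderOf (m * z * m⁻¹) = 2 := by rw [Invol.orderOf_conj_eq, h.hz]
      obtain ⟨n, hn⟩ := isConj_iff.1 (Invol.isConj_involutions hSEN (a := (⟨z, hzN⟩ : N))
        (b := ⟨m * z * m⁻¹, hN.conj_mem z hzN m⟩) (by rw [← orderOf_coe]; exact h.hz)
        (by rwa [← orderOf_coe]))
      have hn' : (n : G) * z * (n : G)⁻¹ = m * z * m⁻¹ := congrArg Subtype.val hn
      refine ⟨n, n.2, P.mem_normalizer_of_conj h.hx h.z1 h.zmem (hn' ▸ h.conj_mem hm h.zmem),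
        h.centralizer_inv h.zmem h.hz (mul_inv_eq_iff_eq_mul.1 ?_)⟩
      calc (n : G)⁻¹ * m * z * ((n : G)⁻¹ * m)⁻¹ = (n : G)⁻¹ * (m * z * m⁻¹) * n := by group
        _ = z := by rw [← hn']; group
    obtain ⟨b, hbN, hbL, hbF⟩ : ∃ b ∈ N, b ∈ L ∧ b ∉ X := by
      by_contra hc
      push Not at hc
      refine h.hne (le_antisymm (fun m hm => ?_) le_normalizer)
      obtain ⟨n, hn, hnL, hnm⟩ := hcov m hm
      simpa using mul_mem (hc n hn hnL) hnm
    have hFN : X ≤ N := by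
      let φ : X → X := fun y => ⟨(y : G)⁻¹ * (b * y * b⁻¹),
        mul_mem (inv_mem y.2) (h.conj_mem hbL y.2)⟩
      have hφ : Function.Injective φ := by
        intro y y' e
        have e' : (y : G)⁻¹ * (b * y * b⁻¹) = (y' : G)⁻¹ * (b * y' * b⁻¹) := congrArg Subtype.val e
        by_contra hne
        refine hbF (h.cent (a := (y' : G) * (y : G)⁻¹) (mul_mem y'.2 (inv_mem y.2))
          (fun e => hne (Subtype.ext (mul_inv_eq_one.mp e).symm)) ?_)
        show b * ((y' : G) * (y : G)⁻¹) = (y' : G) * (y : G)⁻¹ * b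
        symm
        calc (y' : G) * (y : G)⁻¹ * b = (y' : G) * ((y : G)⁻¹ * (b * y * b⁻¹)) * (b * (y : G)⁻¹) := by group
          _ = (y' : G) * ((y' : G)⁻¹ * (b * y' * b⁻¹)) * (b * (y : G)⁻¹) := by rw [e']
          _ = b * ((y' : G) * (y : G)⁻¹) := by group
      have hmemN : ∀ y : X, (φ y : G) ∈ N := fun y => by
        have : (y : G)⁻¹ * (b * y * b⁻¹) = ((y : G)⁻¹ * b * y) * b⁻¹ := by group
        show (y : G)⁻¹ * (b * y * b⁻¹) ∈ N
        rw [this]
        exact mul_mem (by simpa using hN.conj_mem b hbN (y : G)⁻¹) (inv_mem hbN)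
      let ψ : {y : X // (y : G) ∈ N} → {y : X // (y : G) ∈ N} := fun y => ⟨φ y.1, hmemN y.1⟩
      have hψ : Function.Surjective ψ := Finite.injective_iff_surjective.mp fun y y' e =>
        Subtype.ext (hφ (congrArg Subtype.val e))
      intro y hy
      obtain ⟨y', hy'⟩ := hψ ⟨φ ⟨y, hy⟩, hmemN _⟩
      have hyy : (y'.1 : G) = y := congrArg Subtype.val (hφ (congrArg Subtype.val hy'))
      exact hyy ▸ y'.2
    refine eq_top_iff.2 fun g _ => ?_
    obtain ⟨n, hn, hng⟩ := htr g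
    obtain ⟨n', hn', -, hm⟩ := hcov _ hng
    simpa [mul_assoc] using mul_mem hn (mul_mem hn' (hFN hm))
  obtain ⟨y, hy⟩ := c.exists_ne
  have hZ := c.zassenhaus
  let D := Block.Zas.frameOf hZ (a := Cfg.x0 z) (b := y) hy.symm (A z)
    ((A_le_M (t := z)).trans Cfg.stab_x0.ge)
    ⟨fun a ha g => c.conj_mem_A (Cfg.smul_x0_iff.1 g.2) ha⟩
    (fun p q hp hq => c.A_reg hp hq)
  rcases Transfer.MaxSolvTI.zassenhaus_char_two hZ D (even_iff_two_dvd.2 c.two_dvd_card_A) (by
      show Odd (Nat.card (Cfg.P z (Cfg.x0 z) y))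
      rw [(c.base hy).1]
      exact c.h_odd) with ⟨K, i1, i2, ⟨n, hn, hK⟩, ⟨e⟩⟩ | hS
  · left
    refine ⟨K, i1, i2, ?_, ⟨e.trans (QuotientGroup.quotientBot.symm.trans
      (QuotientGroup.quotientMulEquivOfEq (Fus.CTSimple.center_eq_bot_of_two (F := K) ?_).symm))⟩⟩
    · rw [hK]
      calc 4 = 2 ^ 2 := by norm_num
        _ ≤ 2 ^ n := Nat.pow_le_pow_right (by norm_num) hn
    · have hc : ((Fintype.card K : ℕ) : K) = 0 := FiniteField.cast_card_eq_zero K
      rw [hK, Nat.cast_pow, Nat.cast_ofNat] at hc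
      exact (pow_eq_zero_iff (by omega)).1 hc
  · exact Or.inr hS

end Part.OddCfg

end Cfsg.Agent.Grp.Partn
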