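import Mathlib
import Cfsg.Agent.S3730
import Cfsg.Agent.Lib.Grp.Partition.Normal
import Cfsg.Agent.Lib.Grp.Partition.Elementary
import Cfsg.Agent.Lib.Grp.Partition.OddIndex

/-!
The classification of the groups with a nontrivial partition.
-/

set_option autoImplicit false
set_option linter.unusedSectionVars false
set_option linter.style.haveILetI false

namespace Cfsg.Agent.Grp.Partn

open Subgroup
open scoped commutatorElement Pointwise

universe u

variable {G : Type u} [Group G] [Finite G]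

/-- A component of even order and even index in its normalizer: every subgroup of it is normalized by
the normalizer. -/
theorem Part.conj_eq_or_inv (P : Part G) {x : G} (hx : ¬ (orderOf x).Prime) (hx1 : x ≠ 1)
    (hev : Even (orderOf x)) (hidx : Even ((P.C x).subgroupOf (normalizer (P.C x : Set G))).index)
    {m : G} (hm : m ∈ normalizer (P.C x : Set G)) :
    (∀ y ∈ P.C x, m * y * m⁻¹ = y) ∨ (∀ y ∈ P.C x, m * y * m⁻¹ = y⁻¹) := by
  classical
  haveI := Fact.mk Nat.prime_two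
  set X := P.C x with hX
  set N := normalizer (X : Set G) with hN
  haveI : (X.subgroupOf N).Normal := inferInstance
  let π := QuotientGroup.mk' (X.subgroupOf N)
  rw [index_eq_card, even_iff_two_dvd] at hidx
  obtain ⟨qu, hqu⟩ := exists_prime_orderOf_dvd_card' 2 hidx
  obtain ⟨⟨u, huN⟩, rfl⟩ := QuotientGroup.mk_surjective qu
  have huX : u ∉ X := fun e => by
    rw [(QuotientGroup.eq_one_iff (⟨u, huN⟩ : N)).2 e, orderOf_one] at hqu
    exact absurd hqu (by norm_num)
  have hinvol : ∀ y ∈ N, y ∉ X → y ^ 2 ∈ X → ∀ a ∈ X, y * a * y⁻¹ = a⁻¹ := by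
    intro y hyN hyX hy2 a ha
    have h1 : y * y = 1 := by rw [← pow_two]; exact P.pow_eq_one_of_notMem hx1 hyX hy2
    have hya : y * a ∉ X := fun e => hyX ((mul_mem_cancel_right ha).1 e)
    have h2 : (y * a) ^ 2 ∈ X := by
      rw [pow_two, show y * a * (y * a) = (y * a * y⁻¹) * (y * y) * a by group, h1, mul_one]
      exact mul_mem (P.conj_mem_iff hyN ha) ha
    have h3 := P.pow_eq_one_of_notMem hx1 hya h2
    rw [pow_two, show y * a * (y * a) = (y * a * y⁻¹) * (y * y) * a by group, h1, mul_one] at h3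
    exact eq_inv_of_mul_eq_one_left h3
  have hu2 : u ^ 2 ∈ X := by
    have h1 : ((⟨u, huN⟩ : N) : N ⧸ X.subgroupOf N) ^ 2 = 1 := hqu ▸ pow_orderOf_eq_one _
    rw [← QuotientGroup.mk_pow] at h1
    exact (QuotientGroup.eq_one_iff ((⟨u, huN⟩ : N) ^ 2)).1 h1
  have hu := hinvol u huN huX hu2
  have hu1 : u * u = 1 := by rw [← pow_two]; exact P.pow_eq_one_of_notMem hx1 huX hu2
  have hcent : ∀ y : G, Commute y x → y ∈ X := fun y hy => P.mem_of_commute hx1 hy.symm (Or.inl hx)
  -- an element of even order greater than two outside `X`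
  have hno : ∀ z ∈ N, z ∉ X → Even (orderOf z) → z ^ 2 = 1 := by
    intro z hzN hzX he
    by_contra hz2
    obtain ⟨r, hr⟩ := he
    have hz1 : z ≠ 1 := fun e => hzX (e ▸ one_mem X)
    set u' := z ^ r with hu'
    have hu'2 : u' ^ 2 = 1 := by rw [hu', ← pow_mul, mul_two, ← hr, pow_orderOf_eq_one]
    have hu'1 : u' ≠ 1 := fun e => by
      have h1 := orderOf_dvd_of_pow_eq_one e
      have h2 := orderOf_pos z
      have := Nat.le_of_dvd (by omega) h1
      omega
    have hu'X : u' ∉ X := fun e => hu'1 (P.pow_eq_one_of_notMem hx1 hzX e)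
    have hu'i := hinvol u' (pow_mem hzN r) hu'X (hu'2 ▸ one_mem X)
    set v := x ^ (orderOf x / 2) with hv
    have hvo : orderOf v = 2 := orderOf_pow_orderOf_div (orderOf_pos x).ne' (even_iff_two_dvd.1 hev)
    have hvX : v ∈ X := pow_mem (P.mem x) _
    have hv1 : v ≠ 1 := Cfsg.Agent.Invol.ne_one_of_orderOf_two hvo
    have hvu : Commute v u' := by
      have h1 := hu'i v hvX
      rw [Cfsg.Agent.Invol.inv_of_orderOf_two hvo] at h1
      exact (mul_inv_eq_iff_eq_mul.1 h1).symm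
    have hvN := P.mem_normalizer_of_commute hz1 hu'1 (pow_mem (P.mem z) r) hvu
    have hvz : v ∉ P.C z := fun e =>
      hzX (by rw [hX, P.eq_of_common hx1 hz1 hv1 hvX e]; exact P.mem z)
    have hcm : v * z * v⁻¹ * z⁻¹ = 1 := by
      by_contra hne
      have h1 : v * z * v⁻¹ * z⁻¹ ∈ X := by
        rw [show v * z * v⁻¹ * z⁻¹ = v * (z * v⁻¹ * z⁻¹) by group]
        exact mul_mem hvX (P.conj_mem_iff hzN (inv_mem hvX))
      have h2 : v * z * v⁻¹ * z⁻¹ ∈ P.C z := mul_mem (P.conj_mem_iff hvN (P.mem z)) (inv_mem (P.mem z))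
      exact hzX (by rw [hX, P.eq_of_common hx1 hz1 hne h1 h2]; exact P.mem z)
    have hzv : Commute z v := (mul_inv_eq_iff_eq_mul.1 (mul_inv_eq_one.1 hcm)).symm
    obtain ⟨-, hord⟩ := P.prime_of_commute hz1 hv1 hzv hvz
    rw [hvo] at hord
    exact hz2 (hord ▸ pow_orderOf_eq_one z)
  by_cases hmX : m ∈ X
  · left
    intro y hy
    -- `X` is abelian
    have h1 := hu (m * y) (mul_mem hmX hy)
    rw [← conj_mul, hu m hmX, hu y hy, ← mul_inv_rev] at h1
    rw [(inv_injective h1).symm, mul_inv_cancel_right]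
  right
  by_cases hm2 : m ^ 2 ∈ X
  · exact hinvol m hm hmX hm2
  exfalso
  have hme : ¬ Even (orderOf m) := fun he => hm2 (hno m hm hmX he ▸ one_mem X)
  -- `m` commutes with `u` modulo `X`
  have hmu : m * u * m⁻¹ * u⁻¹ ∈ X := by
    refine hcent _ ?_
    have h2 := hu (m⁻¹ * x * m) (by simpa using P.conj_mem_iff (inv_mem hm) (P.mem x))
    have h3 : m * u * m⁻¹ * x * (m * u * m⁻¹)⁻¹ = x⁻¹ := by
      calc _ = m * (u * (m⁻¹ * x * m) * u⁻¹) * m⁻¹ := by group
        _ = x⁻¹ := by rw [h2]; group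
    have h4 : u⁻¹ * x * u = x⁻¹ := by
      rw [show u⁻¹ = u from inv_eq_of_mul_eq_one_right hu1]
      nth_rw 2 [← inv_eq_of_mul_eq_one_right hu1]
      exact hu x (P.mem x)
    show _ * x = x * _
    calc m * u * m⁻¹ * u⁻¹ * x = m * u * m⁻¹ * (u⁻¹ * x * u) * u⁻¹ := by group
      _ = (m * u * m⁻¹ * x * (m * u * m⁻¹)⁻¹)⁻¹ * (m * u * m⁻¹ * u⁻¹) := by rw [h4]; group
      _ = x * (m * u * m⁻¹ * u⁻¹) := by rw [h3, inv_inv]
  set mm : N := ⟨m, hm⟩
  set uu : N := ⟨u, huN⟩
  have hcq : Commute (π mm) (π uu) := by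
    have h1 : π (mm * uu * mm⁻¹ * uu⁻¹) = 1 := (QuotientGroup.eq_one_iff _).2 (by
      rw [mem_subgroupOf]; exact hmu)
    rw [map_mul, map_mul, map_mul, map_inv, map_inv] at h1
    exact mul_inv_eq_iff_eq_mul.1 (mul_inv_eq_one.1 h1)
  have hπu : π uu ^ 2 = 1 := by rw [← map_pow]; exact (QuotientGroup.eq_one_iff _).2 hu2
  have hπu1 : π uu ≠ 1 := fun e => huX ((QuotientGroup.eq_one_iff uu).1 e)
  have hπm : ∃ r, Odd r ∧ π mm ^ r = 1 :=
    ⟨orderOf m, Nat.not_even_iff_odd.1 hme, by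
      rw [← map_pow, show mm ^ orderOf m = 1 from Subtype.ext (pow_orderOf_eq_one m), map_one]⟩
  have hne2 : π mm ^ 2 ≠ 1 := fun e => hm2 ((QuotientGroup.eq_one_iff (mm ^ 2)).1 (by rwa [← map_pow] at e))
  have hzz : π (mm * uu) ^ 2 ≠ 1 := by
    rw [map_mul, hcq.mul_pow, hπu, mul_one]; exact hne2
  have hzX : m * u ∉ X := fun e => hzz (by
    rw [show π (mm * uu) = 1 from (QuotientGroup.eq_one_iff _).2 e, one_pow])
  have heven : Even (orderOf (m * u)) := by
    by_contra hodd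
    obtain ⟨r, hr, hmr⟩ := hπm
    have h1 : π (mm * uu) ^ (orderOf (m * u) * r) = 1 := by
      rw [pow_mul, ← map_pow, show (mm * uu) ^ orderOf (m * u) = 1 from Subtype.ext (pow_orderOf_eq_one (m * u)),
        map_one, one_pow]
    rw [map_mul, hcq.mul_pow, mul_comm, pow_mul, hmr, one_pow, one_mul] at h1
    obtain ⟨k, hk⟩ := hr.mul (Nat.not_even_iff_odd.1 hodd)
    rw [hk, pow_succ, pow_mul, hπu, one_pow, one_mul] at h1
    exact hπu1 h1
  refine hzz ?_
  rw [← map_pow, show (mm * uu) ^ 2 = 1 from Subtype.ext (hno _ (mul_mem hm huN) hzX heven), map_one]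

/-- The subgroup fixing condition on the cyclic subgroups of even order. -/
theorem Part.norm_eq (P : Part G)
    (hev : ∀ x : G, x ≠ 1 → Even (Nat.card (P.C x)) →
      Even ((P.C x).subgroupOf (normalizer (P.C x : Set G))).index)
    (X₀ : Subgroup G) (hX₀ : IsCyclic ↥X₀) (heven : Even (Nat.card ↥X₀)) (Y : Subgroup G) (hY : Y ≤ X₀)
    (hY1 : Y ≠ ⊥) : normalizer (X₀ : Set G) = normalizer (Y : Set G) := by
  obtain ⟨x, rfl⟩ := (Subgroup.isCyclic_iff_exists_zpowers_eq_top _).1 hX₀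
  rw [Nat.card_zpowers] at heven
  by_cases hx2 : orderOf x = 2
  · congr 1
    have h1 : Nat.card Y = 1 ∨ Nat.card Y = 2 :=
      Nat.prime_two.eq_one_or_self_of_dvd _ (by
        have := Subgroup.card_dvd_of_le hY
        rwa [Nat.card_zpowers, hx2] at this)
    rcases h1 with h1 | h1
    · exact absurd (Subgroup.card_eq_one.1 h1) hY1
    · rw [Subgroup.eq_of_le_of_card_ge hY (by rw [h1, Nat.card_zpowers, hx2])]
  have hx1 : x ≠ 1 := fun e => by rw [e, orderOf_one] at heven; exact absurd heven (by decide)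
  have hnp : ¬ (orderOf x).Prime := fun hp => hx2 ((hp.even_iff).1 heven)
  have hXev : Even (Nat.card (P.C x)) :=
    heven.trans_dvd ((P.C x).orderOf_dvd_natCard (P.mem x))
  have key : ∀ m ∈ normalizer (P.C x : Set G), ∀ W : Subgroup G, W ≤ P.C x → m ∈ normalizer (W : Set G) := by
    intro m hm W hW
    refine mem_normalizer_fintype fun w hw => ?_
    rcases P.conj_eq_or_inv hnp hx1 heven (hev x hx1 hXev) hm with h | h
    · rw [h w (hW hw)]; exact hw
    · rw [h w (hW hw)]; exact inv_mem hw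
  have hle : zpowers x ≤ P.C x := zpowers_le.2 (P.mem x)
  have hN : ∀ W : Subgroup G, W ≤ P.C x → W ≠ ⊥ → normalizer (W : Set G) = normalizer (P.C x : Set G) := by
    intro W hW hW1
    obtain ⟨w, hw, hw1⟩ := (Subgroup.bot_or_exists_ne_one W).resolve_left hW1
    exact le_antisymm (fun m hm => P.mem_normalizer_of_conj hx1 hw1 (hW hw)
      (hW ((mem_normalizer_iff.1 hm w).1 hw))) fun m hm => key m hm W hW
  rw [hN _ hle (by rwa [Ne, zpowers_eq_bot]), hN _ (hY.trans hle) hY1]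

/-- The classification. -/
theorem Part.classify (P : Part G) [Nontrivial G] :
    Nonempty (G ≃* Equiv.Perm (Fin 4)) ∨ Goal G ∨
    (∃ (F : Type) (_ : Field F) (_ : Fintype F), 4 ≤ Fintype.card F ∧
        Nonempty (G ≃* Matrix.ProjectiveSpecialLinearGroup (Fin 2) F)) ∨
    (∃ (F : Type) (_ : Field F) (_ : Fintype F), 5 ≤ Fintype.card F ∧ Odd (Fintype.card F) ∧
        Nonempty (G ≃* (GL (Fin 2) F ⧸ Subgroup.center (GL (Fin 2) F)))) ∨
    Cfsg.Lie.IsoSuzuki G := by
  classical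
  by_cases hself : ∃ x : G, x ≠ 1 ∧ normalizer (P.C x : Set G) = P.C x
  · obtain ⟨x, hx, hN⟩ := hself
    refine Or.inr (Or.inl (Or.inr ⟨P.C x, fun e => hx ?_, P.ne_top hx, fun g hg => ?_⟩))
    · have := P.mem x; rwa [e, mem_bot] at this
    rw [eq_bot_iff]
    rintro y ⟨hy, hy'⟩
    rw [mem_bot]
    by_contra hy1
    refine hg ?_
    have h1 : g⁻¹ * y * g ∈ P.C x := by
      have h := mem_pointwise_smul_iff_inv_smul_mem.mp hy'
      simpa [MulAut.smul_def, mul_assoc] using h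
    have h2 : g⁻¹ ∈ normalizer (P.C x : Set G) :=
      P.mem_normalizer_of_conj hx hy1 hy (by rwa [inv_inv])
    rw [hN] at h2
    exact inv_mem_iff.1 h2
  push Not at hself
  by_cases hno : ∃ x : G, x ≠ 1 ∧ (P.C x).Normal
  · obtain ⟨x, hx, hn⟩ := hno
    haveI := hn
    exact Or.inr (Or.inl (P.goal_of_normal hx))
  push Not at hno
  by_cases hss : ∀ N : Subgroup G, N.Normal → Group.IsSolvable ↥N → N = ⊥
  swap
  · push Not at hss
    obtain ⟨N, hN, hNs, hN1⟩ := hss
    obtain ⟨A, p, hp, hAn, hA1, hAe, hAc⟩ := exists_elementary N hN hNs hN1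
    haveI := hAn
    rcases P.goal_or_sym hno hp hA1 hAe hAc with h | h
    · exact Or.inl h
    · exact Or.inr (Or.inl h)
  right; right
  by_cases hodd : ∀ x : G, x ≠ 1 → Even (Nat.card (P.C x)) →
      Even ((P.C x).subgroupOf (normalizer (P.C x : Set G))).index
  · obtain ⟨F, i1, i2, hF, h | ⟨⟨e⟩⟩⟩ := S3730.result hss (P.norm_eq hodd)
    · exact Or.inl ⟨F, i1, i2, hF, h⟩
    rcases Nat.even_or_odd (Fintype.card F) with hev | hod
    · obtain ⟨e'⟩ := Grp.ZasS.pgl_psl_two (K := F) hev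
      exact Or.inl ⟨F, i1, i2, hF, ⟨e.trans e'⟩⟩
    · refine Or.inr (Or.inl ⟨F, i1, i2, ?_, hod, ⟨e⟩⟩)
      obtain ⟨k, hk⟩ := hod
      omega
  push Not at hodd
  obtain ⟨x, hx, hev, hidx⟩ := hodd
  have hntop : normalizer (P.C x : Set G) ≠ ⊤ := fun e => hno x hx (normalizer_eq_top_iff.1 e)
  haveI := Fact.mk Nat.prime_two
  obtain ⟨g, hg, hgX⟩ := SetLike.exists_of_lt (lt_of_le_of_ne le_normalizer (Ne.symm (hself x hx)))
  have hnil := P.nilpotent_of_ne hx hg hgX
  obtain ⟨z, hz, hz1⟩ := (Subgroup.bot_or_exists_ne_one _).resolve_left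
    (centralOmega_ne_bot (p := 2) hnil (even_iff_two_dvd.1 hev))
  have hcfg : P.OddCfg x z := ⟨hx, hself x hx, hntop, Nat.not_even_iff_odd.1 hidx,
    orderOf_eq_prime hz.2.1 hz1, hz.1, fun y hy => hz.2.2 y hy⟩
  rcases hcfg.classify hss with h | h
  · exact Or.inl h
  · exact Or.inr (Or.inr h)
where
  exists_elementary (N : Subgroup G) (hN : N.Normal) (hNs : Group.IsSolvable ↥N) (hN1 : N ≠ ⊥) :
      ∃ (A : Subgroup G) (p : ℕ), p.Prime ∧ A.Normal ∧ A ≠ ⊥ ∧ (∀ a ∈ A, a ^ p = 1) ∧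
        ∀ a ∈ A, ∀ b ∈ A, Commute a b := by
    haveI : Nontrivial N := (nontrivial_iff_ne_bot N).2 hN1
    obtain ⟨n, hn⟩ := hNs.solvable
    induction n with
    | zero => exact absurd hn top_ne_bot
    | succ n ih =>
      by_cases h0 : derivedSeries N n = ⊥
      · exact ih h0
      set D := (derivedSeries N n).map N.subtype with hD
      haveI : (derivedSeries N n).Characteristic := derivedSeries_characteristic N n
      haveI hDn : D.Normal := inferInstance
      have hD1 : D ≠ ⊥ := by rwa [hD, Ne, map_eq_bot_iff_of_injective _ N.subtype_injective]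
      have hDc : ∀ a ∈ D, ∀ b ∈ D, Commute a b := by
        rintro _ ⟨a, ha, rfl⟩ _ ⟨b, hb, rfl⟩
        have h1 : ⁅a, b⁆ ∈ derivedSeries N (n + 1) := by
          rw [derivedSeries_succ]; exact commutator_mem_commutator ha hb
        rw [hn, mem_bot] at h1
        exact (show Commute a b from commutatorElement_eq_one_iff_mul_comm.1 h1).map N.subtype
      obtain ⟨a, ha, ha1⟩ := (Subgroup.bot_or_exists_ne_one D).resolve_left hD1
      set p := (orderOf a).minFac
      have hp : p.Prime := Nat.minFac_prime (fun e => ha1 (orderOf_eq_one_iff.1 e))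
      refine ⟨{ carrier := {y | y ∈ D ∧ y ^ p = 1}
                one_mem' := ⟨one_mem _, one_pow p⟩
                mul_mem' := fun {y w} hy hw => ⟨mul_mem hy.1 hw.1, by
                  rw [(hDc y hy.1 w hw.1).mul_pow, hy.2, hw.2, one_mul]⟩
                inv_mem' := fun {y} hy => ⟨inv_mem hy.1, by rw [inv_pow, hy.2, inv_one]⟩ }, p, hp,
        ⟨fun y hy g => ⟨hDn.conj_mem y hy.1 g, by rw [conj_pow, hy.2]; group⟩⟩, ?_, fun y hy => hy.2,
        fun y hy w hw => hDc y hy.1 w hw.1⟩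
      intro e
      have hmem : a ^ (orderOf a / p) ∈ (⊥ : Subgroup G) := e ▸ ⟨pow_mem ha _, by
        rw [← pow_mul, Nat.div_mul_cancel (Nat.minFac_dvd _), pow_orderOf_eq_one]⟩
      rw [mem_bot] at hmem
      have := orderOf_pow_orderOf_div (orderOf_pos a).ne' (Nat.minFac_dvd (orderOf a))
      rw [hmem, orderOf_one] at this
      exact hp.ne_one this.symm

end Cfsg.Agent.Grp.Partn
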